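import Cfsg.Agent.ClassNum9.Omega.Disc
import Cfsg.Agent.ClassNum9.Orth.Flip
import Cfsg.Agent.Forms59.Spinor

/-!
Centralisers inside Omega: every invariant subspace of even dimension has square discriminant.
-/

set_option autoImplicit false

namespace Cfsg.Agent.CN9

open Module Polynomial Matrix
open Cfsg.Agent.Reflections (act refl mat)
open Cfsg.Agent.Forms59 (reflProd)

universe u

variable {F : Type u} [Field F] [Fintype F] {ι : Type} [Fintype ι] [DecidableEq ι]
variable {Q : QuadraticForm F (ι → F)}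

/-- an isometry as a linear equivalence -/
noncomputable def isoEquiv (a : ↥(Cfsg.isometryGroup F ⇑Q)) : (ι → F) ≃ₗ[F] (ι → F) :=
  LinearEquiv.ofLinearMap (Matrix.toLin' ((a : Matrix.GeneralLinearGroup ι F) : Matrix ι ι F))
    (Matrix.toLin' (((a : Matrix.GeneralLinearGroup ι F)⁻¹ : Matrix.GeneralLinearGroup ι F) : Matrix ι ι F))
    (by rw [← Matrix.toLin'_mul, ← Units.val_mul, mul_inv_cancel]; exact Matrix.toLin'_one)
    (by rw [← Matrix.toLin'_mul, ← Units.val_mul, inv_mul_cancel]; exact Matrix.toLin'_one)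

theorem isoEquiv_apply (a : ↥(Cfsg.isometryGroup F ⇑Q)) (x : ι → F) : isoEquiv a x = act a x := rfl

theorem formAut_isoEquiv (a : ↥(Cfsg.isometryGroup F ⇑Q)) :
    FormAut (1 : F) (QuadraticMap.polarBilin Q) (isoEquiv a) :=
  ⟨Or.inl rfl, fun x y => by
      rw [one_mul, QuadraticMap.polarBilin_apply_apply, QuadraticMap.polarBilin_apply_apply, QuadraticMap.polar_comm],
    fun x y => by
      have h1 : ∀ v, Q (isoEquiv a v) = Q v := fun v => a.2 v v
      simp only [QuadraticMap.polarBilin_apply_apply, QuadraticMap.polar, ← map_add, h1]⟩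

theorem polarBilin_symm' (x y : ι → F) :
    QuadraticMap.polarBilin Q x y = QuadraticMap.polarBilin Q y x := by
  rw [QuadraticMap.polarBilin_apply_apply, QuadraticMap.polarBilin_apply_apply, QuadraticMap.polar_comm]

/-- the centraliser in the special group lies in Omega -/
def CentInOmega (g : ↥(Cfsg.isometryGroup F ⇑Q)) : Prop :=
  ∀ y : ↥(Cfsg.isometryGroup F ⇑Q), Commute y g → (mat y).det = 1 → y ∈ Cfsg.Omega F ⇑Q

theorem mat_mul_det (a b : ↥(Cfsg.isometryGroup F ⇑Q)) : (mat (a * b)).det = (mat a).det * (mat b).det := by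
  rw [Forms59.mat_mul', Matrix.det_mul]

theorem reflProd_det : ∀ vs : List (ι → F), (∀ v ∈ vs, Q v ≠ 0) → (mat (reflProd Q vs)).det = (-1) ^ vs.length
  | [], _ => by simp [reflProd, mat]
  | v :: vs, h => by
    rw [Forms59.reflProd_cons, mat_mul_det, Reflections.mat_refl (h v (by simp)),
      Reflections.det_reflection Q (h v (by simp)), reflProd_det vs (fun w hw => h w (by simp [hw])),
      List.length_cons, pow_succ']

theorem reflProd_fix : ∀ (vs : List (ι → F)), (∀ v ∈ vs, Q v ≠ 0) → ∀ x, (∀ v ∈ vs, QuadraticMap.polar ⇑Q v x = 0) →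
    act (reflProd Q vs) x = x
  | [], _, x, _ => by simp [reflProd]
  | v :: vs, h, x, hx => by
    rw [Forms59.reflProd_cons, Reflections.act_mul, reflProd_fix vs (fun w hw => h w (by simp [hw])) x
      (fun w hw => hx w (by simp [hw])), Reflections.refl_fix (h v (by simp)) (hx v (by simp))]

theorem reflProd_neg : ∀ (vs : List (ι → F)), (∀ v ∈ vs, Q v ≠ 0) →
    vs.Pairwise (fun v w => QuadraticMap.polar ⇑Q v w = 0) → ∀ v ∈ vs, act (reflProd Q vs) v = -v
  | [], _, _ => by simp
  | w :: vs, h, hp => by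
    obtain ⟨hw, hp'⟩ := List.pairwise_cons.1 hp
    intro v hv
    rw [Forms59.reflProd_cons, Reflections.act_mul]
    rcases List.mem_cons.1 hv with rfl | hv'
    · rw [reflProd_fix vs (fun u hu => h u (by simp [hu])) v (fun u hu => by
        rw [QuadraticMap.polar_comm]; exact hw u hu), Reflections.refl_self (h v (by simp))]
    · rw [reflProd_neg vs (fun u hu => h u (by simp [hu])) hp' v hv', Reflections.act_neg,
        Reflections.refl_fix (h w (by simp)) (hw v hv')]

variable (h2 : (2 : F) ≠ 0) (hQ : (QuadraticMap.polarBilin Q).Nondegenerate)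

include hQ in
theorem polar_ndOn_top : NdOn (QuadraticMap.polarBilin Q) (⊤ : Submodule F (ι → F)) :=
  fun x _ hx => hQ.1 x fun y => hx y Submodule.mem_top

include h2 in
theorem exists_negList [DecidableEq F] {W : Submodule F (ι → F)} (hnd : NdOn (QuadraticMap.polarBilin Q) W) :
    ∃ vs : List (ι → F), (∀ v ∈ vs, Q v ≠ 0) ∧ vs.length = finrank F W ∧
      (∀ x ∈ W, act (reflProd Q vs) x = -x) ∧ (∀ x ∈ perp' (QuadraticMap.polarBilin Q) W, act (reflProd Q vs) x = x) ∧
      discChi (QuadraticMap.polarBilin Q) W =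
        quadraticChar F (2 : F) ^ finrank F W * quadraticChar F (vs.map fun v => Q v).prod := by
  obtain ⟨b, hoff, hne, hchi⟩ := exists_orth_discChi h2 polarBilin_symm' hnd
  have hself : ∀ x, QuadraticMap.polarBilin Q x x = 2 * Q x := fun x => by
    rw [QuadraticMap.polarBilin_apply_apply, QuadraticMap.polar_self]; simp
  set vs := List.ofFn fun i => (b i : ι → F) with hvs
  have hQv : ∀ v ∈ vs, Q v ≠ 0 := by
    intro v hv
    obtain ⟨i, rfl⟩ := (List.mem_ofFn' _ _).1 hv
    exact fun h0 => hne i (by rw [hself, h0, mul_zero])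
  refine ⟨vs, hQv, by simp [hvs], fun x hx => ?_, fun x hx => ?_, ?_⟩
  · have hb : ∀ i, act (reflProd Q vs) (b i : ι → F) = -(b i : ι → F) := fun i =>
      reflProd_neg vs hQv (List.pairwise_ofFn.2 fun i j hij => hoff i j (ne_of_lt hij)) _
        ((List.mem_ofFn' _ _).2 ⟨i, rfl⟩)
    have hmap : ((isoEquiv (reflProd Q vs)).toLinearMap.comp W.subtype) = -W.subtype :=
      b.ext fun i => by
        show isoEquiv (reflProd Q vs) (b i : ι → F) = -(b i : ι → F)
        rw [isoEquiv_apply, hb]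
    exact LinearMap.congr_fun hmap ⟨x, hx⟩
  · refine reflProd_fix vs hQv x fun v hv => ?_
    obtain ⟨i, rfl⟩ := (List.mem_ofFn' _ _).1 hv
    exact hx _ (b i).2
  · rw [hchi]
    simp only [hvs, List.map_ofFn, List.prod_ofFn, Function.comp_def, hself, Finset.prod_mul_distrib,
      Finset.prod_const, Finset.card_univ, Fintype.card_fin, map_mul, map_pow]

include hQ in
theorem commute_of_agree {W : Submodule F (ι → F)} (hnd : NdOn (QuadraticMap.polarBilin Q) W)
    {y g : ↥(Cfsg.isometryGroup F ⇑Q)} (hW : ∀ x ∈ W, act y (act g x) = act g (act y x))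
    (hperp : ∀ x ∈ perp' (QuadraticMap.polarBilin Q) W, act y (act g x) = act g (act y x)) : Commute y g := by
  refine Reflections.isom_ext fun x => ?_
  obtain ⟨π, hπ, hp, -, -⟩ := exists_proj (formAut_isoEquiv g) hnd
  rw [Reflections.act_mul, Reflections.act_mul, ← add_sub_cancel (π x) x]
  simp only [Reflections.act_add]
  rw [hW _ (hπ x), hperp _ (hp x)]

include h2 hQ in
/-- invariant subspaces of even dimension have square discriminant -/
theorem CentInOmega.discChi_even [DecidableEq F] (hn : 2 ≤ Fintype.card ι) {g : ↥(Cfsg.isometryGroup F ⇑Q)}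
    (hg : CentInOmega g) {W : Submodule F (ι → F)} (hWi : ∀ x ∈ W, isoEquiv g x ∈ W)
    (hnd : NdOn (QuadraticMap.polarBilin Q) W) (hev : Even (finrank F W)) :
    discChi (QuadraticMap.polarBilin Q) W = 1 := by
  obtain ⟨vs, hvs, hlen, hneg, hfix, hchi⟩ := exists_negList h2 hnd
  have hmem : reflProd Q vs ∈ Cfsg.Omega F ⇑Q := by
    refine hg _ (commute_of_agree hQ hnd (fun x hx => ?_) fun x hx => ?_) ?_
    · rw [hneg x hx, hneg (act g x) (hWi x hx), Reflections.act_neg]
    · rw [hfix x hx, hfix (act g x) (map_perp (formAut_isoEquiv g) hWi hx)]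
    · rw [reflProd_det vs hvs, hlen, hev.neg_one_pow]
  have hsq := ((Forms59.reflProd_mem_omega_iff h2 hQ hn vs hvs).1 hmem).2
  have hne : (vs.map fun v => Q v).prod ≠ 0 := by
    refine List.prod_ne_zero fun h0 => ?_
    obtain ⟨v, hv, hv0⟩ := List.mem_map.1 h0
    exact hvs v hv hv0
  obtain ⟨r, hr⟩ := hev
  rw [hchi, (quadraticChar_one_iff_isSquare hne).2 hsq, mul_one, hr, ← two_mul, pow_mul, quadraticChar_sq_one h2, one_pow]

include h2 hQ in
/-- invariant subspaces of odd dimension share the discriminant of the whole space -/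
theorem CentInOmega.discChi_odd [DecidableEq F] (hn : 2 ≤ Fintype.card ι) (hN : Odd (Fintype.card ι))
    {g : ↥(Cfsg.isometryGroup F ⇑Q)} (hg : CentInOmega g) {W : Submodule F (ι → F)}
    (hWi : ∀ x ∈ W, isoEquiv g x ∈ W) (hnd : NdOn (QuadraticMap.polarBilin Q) W) (hodd : Odd (finrank F W)) :
    discChi (QuadraticMap.polarBilin Q) W = discChi (QuadraticMap.polarBilin Q) (⊤ : Submodule F (ι → F)) := by
  obtain ⟨hnd', hdim, hmul⟩ := discChi_compl polarBilin_symm' (polar_ndOn_top hQ) hnd
  rw [Module.finrank_fintype_fun_eq_card] at hdim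
  have hev : Even (finrank F ↥(perp' (QuadraticMap.polarBilin Q) W)) := by
    rw [Nat.even_iff]; rw [Nat.odd_iff] at hN hodd; omega
  have hi : ∀ x ∈ perp' (QuadraticMap.polarBilin Q) W, isoEquiv g x ∈ perp' (QuadraticMap.polarBilin Q) W :=
    fun x hx => map_perp (formAut_isoEquiv g) hWi hx
  rw [← hmul, hg.discChi_even h2 hQ hn hi hnd' hev, mul_one]

include h2 hQ in
/-- the label of a linear piece is forced -/
theorem CentInOmega.label_unique (hn : 2 ≤ Fintype.card ι) (hN : Odd (Fintype.card ι))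
    {g g' : ↥(Cfsg.isometryGroup F ⇑Q)} (hg : CentInOmega g) (hg' : CentInOmega g') {s : F} (hs : s = 1 ∨ s = -1)
    {e : ℕ} (he : Odd e) {ν ν' : Bool} {W W' : Submodule F (ι → F)}
    (hW : IsPiece (1 : F) (QuadraticMap.polarBilin Q) (isoEquiv g) W ((X - C s, e), ν))
    (hW' : IsPiece (1 : F) (QuadraticMap.polarBilin Q) (isoEquiv g') W' ((X - C s, e), ν')) : ν = ν' := by
  classical
  by_contra hne
  have hν' : ν' = !ν := by cases ν <;> cases ν' <;> simp_all
  subst hν'
  obtain ⟨c, hc⟩ := FiniteField.exists_nonsquare (F := F) fun hch => h2 (by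
    haveI := ringChar.of_eq hch
    exact CharP.cast_eq_zero F 2)
  have hc0 : c ≠ 0 := fun h0 => hc (h0 ▸ IsSquare.zero)
  obtain ⟨hc', hWc⟩ := piece_scale hs (formAut_isoEquiv g) hW hc
  obtain ⟨hWi, hWnd, hdim⟩ := piece_props h2 (formAut_isoEquiv g) hW
  obtain ⟨hW'i, hW'nd, hdim'⟩ := piece_props h2 (formAut_isoEquiv g') hW'
  simp only [natDegree_X_sub_C, mul_one] at hdim hdim'
  obtain ⟨f, hf, hfB, -⟩ := piece_iso h2 hc' (formAut_isoEquiv g') hWc hW'
  have h1 := discChi_map hWnd hc0 f hf (fun x hx y hy => by rw [hfB x hx y hy]; rfl)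
  rw [hg.discChi_odd h2 hQ hn hN hWi hWnd (hdim ▸ he), hg'.discChi_odd h2 hQ hn hN hW'i hW'nd (hdim' ▸ he), hdim,
    map_pow, quadraticChar_neg_one_iff_not_isSquare.2 hc, he.neg_one_pow] at h1
  rcases discChi_cases polarBilin_symm' (polar_ndOn_top hQ) with h3 | h3 <;> rw [h3] at h1 <;> norm_num at h1

end Cfsg.Agent.CN9
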