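import Cfsg.Agent.ClassNum9.Iso.Decomp

/-!
Discriminant classes of subspaces.
-/

set_option autoImplicit false

namespace Cfsg.Agent.CN9

open Module

universe u v w

variable {F : Type u} [Field F] [Fintype F] [DecidableEq F] {V : Type v} [AddCommGroup V] [Module F V]
  [FiniteDimensional F V]
variable {B : LinearMap.BilinForm F V}

/-- the discriminant class of a subspace -/
noncomputable def discChi (B : LinearMap.BilinForm F V) (W : Submodule F V) : ℤ :=
  quadraticChar F (LinearMap.BilinForm.toMatrix (Module.finBasis F W) (B.restrict W)).det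

theorem quadraticChar_sq_mul {a : F} (ha : a ≠ 0) (b : F) : quadraticChar F (a * a * b) = quadraticChar F b := by
  rw [map_mul, map_mul, ← sq, quadraticChar_sq_one ha, one_mul]

/-- the discriminant class does not depend on the basis -/
theorem discChi_basis {W : Submodule F V} {κ : Type*} [Fintype κ] [DecidableEq κ] (b : Basis κ F W) :
    discChi B W = quadraticChar F (LinearMap.BilinForm.toMatrix b (B.restrict W)).det := by
  set e := Module.finBasis F W with he
  let σ : Fin (finrank F W) ≃ κ := (Basis.indexEquiv e b)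
  let b' := b.reindex σ.symm
  have h1 : LinearMap.BilinForm.toMatrix b' (B.restrict W) =
      (LinearMap.BilinForm.toMatrix b (B.restrict W)).submatrix σ σ := by
    ext i j
    simp [b', LinearMap.BilinForm.toMatrix_apply]
  have h2 := congrArg Matrix.det (LinearMap.BilinForm.toMatrix_mul_basis_toMatrix b' e (B.restrict W))
  rw [Matrix.det_mul, Matrix.det_mul, Matrix.det_transpose, h1, Matrix.det_submatrix_equiv_self] at h2
  have hne : (b'.toMatrix e).det ≠ 0 := fun h0 => by
    have hinv := congrArg Matrix.det (Module.Basis.toMatrix_mul_toMatrix_flip b' e)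
    rw [Matrix.det_mul, h0] at hinv
    simp at hinv
  rw [discChi, ← he, ← h2, show (b'.toMatrix e).det * (LinearMap.BilinForm.toMatrix b (B.restrict W)).det *
    (b'.toMatrix e).det = (b'.toMatrix e).det * (b'.toMatrix e).det * (LinearMap.BilinForm.toMatrix b (B.restrict W)).det by ring,
    quadraticChar_sq_mul hne]

theorem restrict_det_ne_zero (hs : ∀ x y, B x y = B y x) {W : Submodule F V} (hnd : NdOn B W) {κ : Type*} [Fintype κ]
    [DecidableEq κ] (b : Basis κ F W) : (LinearMap.BilinForm.toMatrix b (B.restrict W)).det ≠ 0 :=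
  (LinearMap.BilinForm.nondegenerate_iff_det_ne_zero b).1
    ⟨fun x hx => Subtype.ext (hnd x x.2 fun y hy => hx ⟨y, hy⟩),
      fun x hx => Subtype.ext (hnd x x.2 fun y hy => by rw [hs]; exact hx ⟨y, hy⟩)⟩

theorem discChi_cases (hs : ∀ x y, B x y = B y x) {W : Submodule F V} (hnd : NdOn B W) :
    discChi B W = 1 ∨ discChi B W = -1 :=
  quadraticChar_dichotomy (restrict_det_ne_zero hs hnd _)

theorem exists_orth_discChi (h2 : (2 : F) ≠ 0) (hs : ∀ x y, B x y = B y x) {W : Submodule F V} (hnd : NdOn B W) :
    ∃ b : Basis (Fin (finrank F W)) F W, (∀ i j, i ≠ j → B (b i : V) (b j) = 0) ∧ (∀ i, B (b i : V) (b i) ≠ 0) ∧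
      discChi B W = quadraticChar F (∏ i, B (b i : V) (b i)) := by
  letI : Invertible (2 : F) := invertibleOfNonzero h2
  obtain ⟨b, hb⟩ := LinearMap.BilinForm.exists_orthogonal_basis (B := B.restrict W) ⟨fun x y => hs _ _⟩
  have hoff : ∀ i j, i ≠ j → B (b i : V) (b j) = 0 := fun i j h => hb h
  have hdiag : LinearMap.BilinForm.toMatrix b (B.restrict W) = Matrix.diagonal fun i => B (b i : V) (b i) := by
    ext i j
    rcases eq_or_ne i j with rfl | h
    · rw [Matrix.diagonal_apply_eq, LinearMap.BilinForm.toMatrix_apply]; rfl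
    · rw [Matrix.diagonal_apply_ne _ h, LinearMap.BilinForm.toMatrix_apply]; exact hoff i j h
  have hdet := restrict_det_ne_zero hs hnd b
  rw [hdiag, Matrix.det_diagonal] at hdet
  refine ⟨b, hoff, fun i => Finset.prod_ne_zero_iff.1 hdet i (Finset.mem_univ i), ?_⟩
  rw [discChi_basis b, hdiag, Matrix.det_diagonal]

/-- images under similitudes -/
theorem discChi_map {V' : Type w} [AddCommGroup V'] [Module F V'] [FiniteDimensional F V']
    {B' : LinearMap.BilinForm F V'} {W : Submodule F V} {W' : Submodule F V'} (hnd : NdOn B W) {c : F} (hc : c ≠ 0)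
    (f : V →ₗ[F] V') (hf : W.map f = W') (hB : ∀ x ∈ W, ∀ y ∈ W, B' (f x) (f y) = c * B x y) :
    discChi B' W' = quadraticChar F (c ^ finrank F W) * discChi B W := by
  subst hf
  let g : W →ₗ[F] W.map f := (f.domRestrict W).codRestrict _ fun x => Submodule.mem_map_of_mem x.2
  have hg : Function.Bijective g := by
    refine ⟨?_, ?_⟩
    · rw [← LinearMap.ker_eq_bot, LinearMap.ker_eq_bot']
      intro x hx
      have hx' : f x = 0 := congrArg Subtype.val hx
      refine Subtype.ext (hnd x x.2 fun y hy => (mul_eq_zero.1 ?_).resolve_left hc)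
      rw [← hB x x.2 y hy, hx', map_zero, LinearMap.zero_apply]
    · rintro ⟨_, x, hx, rfl⟩
      exact ⟨⟨x, hx⟩, rfl⟩
  let e := LinearEquiv.ofBijective g hg
  let b := Module.finBasis F W
  rw [discChi_basis (b.map e), discChi]
  have h : LinearMap.BilinForm.toMatrix (b.map e) (B'.restrict (W.map f)) =
      c • LinearMap.BilinForm.toMatrix b (B.restrict W) := by
    ext i j
    rw [Matrix.smul_apply, LinearMap.BilinForm.toMatrix_apply, LinearMap.BilinForm.toMatrix_apply, smul_eq_mul]
    exact hB _ (b i).2 _ (b j).2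
  rw [h, Matrix.det_smul, map_mul, Fintype.card_fin]

/-- orthogonal sums -/
theorem discChi_compl (hs : ∀ x y, B x y = B y x) (hB : NdOn B (⊤ : Submodule F V)) {W : Submodule F V}
    (hnd : NdOn B W) :
    NdOn B (perp' B W) ∧ finrank F W + finrank F (perp' B W) = finrank F V ∧
      discChi B W * discChi B (perp' B W) = discChi B (⊤ : Submodule F V) := by
  classical
  have hid : FormAut (1 : F) B (LinearEquiv.refl F V) :=
    ⟨Or.inl rfl, fun x y => by rw [one_mul, hs], fun x y => rfl⟩
  obtain ⟨-, hnd', hdis, hsup⟩ := rest_props hid (U := ⊤) (W := W) (fun _ _ => Submodule.mem_top) hB le_top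
    (fun x hx => hx) hnd
  rw [top_inf_eq] at hnd' hdis hsup
  have hc : IsCompl W (perp' B W) := ⟨hdis, codisjoint_iff.2 hsup⟩
  refine ⟨hnd', Submodule.finrank_add_eq_of_isCompl hc, ?_⟩
  let e : (W × perp' B W) ≃ₗ[F] (⊤ : Submodule F V) :=
    (Submodule.prodEquivOfIsCompl W (perp' B W) hc).trans Submodule.topEquiv.symm
  rw [discChi_basis (((Module.finBasis F W).prod (Module.finBasis F (perp' B W))).map e)]
  have h : LinearMap.BilinForm.toMatrix (((Module.finBasis F W).prod (Module.finBasis F (perp' B W))).map e)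
      (B.restrict ⊤) = Matrix.fromBlocks (LinearMap.BilinForm.toMatrix (Module.finBasis F W) (B.restrict W)) 0 0
        (LinearMap.BilinForm.toMatrix (Module.finBasis F (perp' B W)) (B.restrict (perp' B W))) := by
    ext (i | i) (j | j) <;> simp [LinearMap.BilinForm.toMatrix_apply, e]
    · exact (Module.finBasis F (perp' B W) j).2 _ (Module.finBasis F W i).2
    · rw [hs]; exact (Module.finBasis F (perp' B W) i).2 _ (Module.finBasis F W j).2
  rw [h, Matrix.det_fromBlocks_zero₂₁, map_mul]
  rfl

end Cfsg.Agent.CN9
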