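import Mathlib

/-!
Class numbers of a subgroup of index two.
-/

set_option autoImplicit false

namespace Cfsg.Agent.CN9

open Finset

universe u

variable {G : Type u} [Group G] [Fintype G] [DecidableEq G]

/-- commuting pairs over a union of classes -/
theorem card_comm_of_pred (p : G → Prop) (hp : ∀ x y : G, IsConj x y → p x → p y) :
    Nat.card {q : G × G // Commute q.1 q.2 ∧ p q.1} =
      Nat.card {C : ConjClasses G // ∃ x, ConjClasses.mk x = C ∧ p x} * Nat.card G := by
  classical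
  let P : ConjClasses G → Prop := fun C => ∃ x, ConjClasses.mk x = C ∧ p x
  have hP : ∀ x, p x ↔ P (ConjClasses.mk x) := fun x =>
    ⟨fun h => ⟨x, rfl, h⟩, fun ⟨y, hy, hpy⟩ => hp y x (ConjClasses.mk_eq_mk_iff_isConj.1 hy) hpy⟩
  have hcent : ∀ x : G, Fintype.card {y // Commute x y} * ((Finset.univ.filter fun z => ConjClasses.mk z = ConjClasses.mk x).card) =
      Fintype.card G := by
    intro x
    have h1 := MulAction.card_orbit_mul_card_stabilizer_eq_card_group (ConjAct G) x
    rw [mul_comm]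
    refine Eq.trans ?_ (h1.trans ConjAct.card)
    congr 1
    · rw [← Fintype.card_subtype]
      refine Fintype.card_congr (Equiv.subtypeEquivRight fun z => ?_)
      rw [ConjAct.orbit_eq_carrier_conjClasses, ConjClasses.mem_carrier_iff_mk_eq]
    · refine Fintype.card_congr (Equiv.subtypeEquiv ConjAct.toConjAct.toEquiv fun y => ?_)
      rw [MulAction.mem_stabilizer_iff]
      show Commute x y ↔ ConjAct.toConjAct y • x = x
      rw [ConjAct.toConjAct_smul, mul_inv_eq_iff_eq_mul]
      exact ⟨fun h => h.eq.symm, fun h => h.symm⟩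
  let e : {q : G × G // Commute q.1 q.2 ∧ p q.1} ≃ Σ x : {x // p x}, {y // Commute x.1 y} :=
    { toFun := fun q => ⟨⟨q.1.1, q.2.2⟩, q.1.2, q.2.1⟩
      invFun := fun q => ⟨(q.1.1, q.2.1), q.2.2, q.1.2⟩
      left_inv := fun q => rfl
      right_inv := fun q => rfl }
  rw [Nat.card_congr e, Nat.card_eq_fintype_card, Fintype.card_sigma, Nat.card_eq_fintype_card,
    Nat.card_eq_fintype_card]
  rw [← Finset.sum_subtype (s := Finset.univ.filter p) (p := p) (fun x => by simp)
    (fun x : G => Fintype.card {y // Commute x y})]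
  rw [← Finset.sum_fiberwise_of_maps_to (g := ConjClasses.mk) (t := Finset.univ.filter P)
    (fun x hx => by simpa [← hP] using hx)]
  rw [Fintype.card_subtype, ← smul_eq_mul, ← Finset.sum_const]
  refine Finset.sum_congr rfl fun C hC => ?_
  obtain ⟨-, x, rfl, hx⟩ := Finset.mem_filter.1 hC
  rw [Finset.filter_filter, Finset.filter_congr (q := fun z => ConjClasses.mk z = ConjClasses.mk x)
    fun z _ => ⟨fun h => h.2, fun h => ⟨(hP z).2 (h ▸ (hP x).1 hx), h⟩⟩]
  rw [← hcent x, mul_comm, ← smul_eq_mul, ← Finset.sum_const]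
  refine Finset.sum_congr rfl fun z hz => ?_
  have hz' := (Finset.mem_filter.1 hz).2
  have h1 := hcent z
  rw [hz', ← hcent x] at h1
  exact Nat.eq_of_mul_eq_mul_right (Finset.card_pos.2 ⟨x, by simp⟩) h1

/-- twice the class number of a subgroup of index two -/
theorem index_two_classes {H : Subgroup G} (hidx : H.index = 2) :
    2 * Nat.card (ConjClasses H) = Nat.card (ConjClasses G) +
      3 * Nat.card {C : ConjClasses G // ∃ x, ConjClasses.mk x = C ∧ x ∈ H ∧ ∀ y, Commute y x → y ∈ H} := by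
  classical
  haveI : H.Normal := Subgroup.normal_of_index_eq_two hidx
  have hmul : ∀ a b : G, a * b ∈ H ↔ (a ∈ H ↔ b ∈ H) := fun a b => Subgroup.mul_mem_iff_of_index_two hidx
  have hcard : Nat.card G = 2 * Nat.card H := by
    rw [← Subgroup.index_mul_card H, hidx]
  have hconjH : ∀ x y : G, IsConj x y → (x ∈ H ↔ y ∈ H) := fun x y h => by
    obtain ⟨c, rfl⟩ := isConj_iff.1 h
    exact ⟨fun hx => Subgroup.Normal.conj_mem inferInstance x hx c, fun hy => by
      simpa [mul_assoc] using Subgroup.Normal.conj_mem inferInstance _ hy c⁻¹⟩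
  have hconjC : ∀ x y : G, IsConj x y → (∀ z, Commute z x → z ∈ H) → ∀ z, Commute z y → z ∈ H := fun x y h hx z hz => by
    obtain ⟨c, rfl⟩ := isConj_iff.1 h
    have h1 : Commute (c⁻¹ * z * c) x := by
      have h2 := hz.eq
      calc c⁻¹ * z * c * x = c⁻¹ * (z * (c * x * c⁻¹)) * c := by group
        _ = c⁻¹ * (c * x * c⁻¹ * z) * c := by rw [h2]
        _ = x * (c⁻¹ * z * c) := by group
    simpa [mul_assoc] using Subgroup.Normal.conj_mem inferInstance _ (hx _ h1) c
  -- the four kinds of commuting pairs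
  let N : (G → G → Prop) → ℕ := fun R => Nat.card {q : G × G // Commute q.1 q.2 ∧ R q.1 q.2}
  have hsplit : ∀ R S : G → G → Prop, N R = N (fun a b => R a b ∧ S a b) + N (fun a b => R a b ∧ ¬ S a b) := by
    intro R S
    simp only [N, Nat.card_eq_fintype_card, Fintype.card_subtype]
    rw [← Finset.card_filter_add_card_filter_not (s := Finset.univ.filter _) (p := fun q : G × G => S q.1 q.2)]
    simp only [Finset.filter_filter, and_assoc]
  have hHO : N (fun a b => a ∈ H ∧ b ∉ H) = N (fun a b => a ∉ H ∧ b ∈ H) :=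
    Nat.card_congr ((Equiv.prodComm G G).subtypeEquiv fun q => ⟨fun h => ⟨h.1.symm, h.2.2, h.2.1⟩, fun h => ⟨h.1.symm, h.2.2, h.2.1⟩⟩)
  have hOO : N (fun a b => a ∉ H ∧ b ∉ H) = N (fun a b => a ∈ H ∧ b ∉ H) :=
    Nat.card_congr ((⟨fun q => (q.1 * q.2, q.2), fun q => (q.1 * q.2⁻¹, q.2), fun q => by simp, fun q => by simp⟩ :
      G × G ≃ G × G).subtypeEquiv fun q => by
        refine and_congr ⟨fun h => h.mul_left (Commute.refl _), fun h => ?_⟩ ?_
        · have := h.mul_left (Commute.refl q.2).inv_left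
          simpa using this
        · simp only [Equiv.coe_fn_mk, hmul]
          tauto)
  have hHH : N (fun a b => a ∈ H ∧ b ∈ H) = Nat.card (ConjClasses H) * Nat.card H := by
    rw [← card_comm_eq_card_conjClasses_mul_card]
    exact Nat.card_congr
      { toFun := fun q => ⟨(⟨q.1.1, q.2.2.1⟩, ⟨q.1.2, q.2.2.2⟩), Subtype.ext q.2.1⟩
        invFun := fun q => ⟨((q.1.1 : G), (q.1.2 : G)), congrArg Subtype.val q.2, q.1.1.2, q.1.2.2⟩
        left_inv := fun q => rfl
        right_inv := fun q => rfl }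
  have hall : N (fun a _ => a ∈ H) + N (fun a _ => a ∉ H) = Nat.card (ConjClasses G) * Nat.card G := by
    rw [← card_comm_eq_card_conjClasses_mul_card]
    simp only [N, Nat.card_eq_fintype_card, Fintype.card_subtype]
    rw [← Finset.card_filter_add_card_filter_not (s := Finset.univ.filter fun q : G × G => Commute q.1 q.2)
      (p := fun q : G × G => q.1 ∈ H)]
    simp only [Finset.filter_filter]
  -- classes inside
  set Pa : G → Prop := fun x => x ∈ H ∧ ∀ z, Commute z x → z ∈ H with hPa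
  set Pb : G → Prop := fun x => x ∈ H ∧ ¬ ∀ z, Commute z x → z ∈ H with hPb
  have ha := card_comm_of_pred Pa fun x y h hx => ⟨(hconjH x y h).1 hx.1, hconjC x y h hx.2⟩
  have hb := card_comm_of_pred Pb fun x y h hx => ⟨(hconjH x y h).1 hx.1, fun hy => hx.2 (hconjC y x h.symm hy)⟩
  have s1 := hsplit (fun a _ => a ∈ H) (fun _ b => b ∈ H)
  have s2 := hsplit (fun a _ => a ∉ H) (fun _ b => b ∈ H)
  have s3 := hsplit (fun a _ => a ∈ H) (fun a _ => ∀ z, Commute z a → z ∈ H)
  have s4 := hsplit (fun a _ => Pb a) (fun _ b => b ∈ H)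
  -- pairs over classes with centraliser outside: half of them have both entries inside
  have hhalf : N (fun a b => Pb a ∧ b ∈ H) = N (fun a b => Pb a ∧ ¬ b ∈ H) := by
    simp only [N]
    have key : ∀ a : G, Pb a → Nat.card {b // Commute a b ∧ b ∈ H} = Nat.card {b // Commute a b ∧ ¬ b ∈ H} := by
      intro a ha'
      obtain ⟨-, hz⟩ := ha'
      push Not at hz
      obtain ⟨z, hza, hzH⟩ := hz
      refine Nat.card_congr ((Equiv.mulLeft z).subtypeEquiv fun b => ?_)
      simp only [Equiv.coe_mulLeft, hmul]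
      refine and_congr ⟨fun h => hza.symm.mul_right h, fun h => ?_⟩ (by tauto)
      simpa using hza.symm.inv_right.mul_right h
    let e : ∀ R : G → Prop, {q : G × G // Commute q.1 q.2 ∧ Pb q.1 ∧ R q.2} ≃ Σ a : {a // Pb a}, {b // Commute a.1 b ∧ R b} :=
      fun R =>
      { toFun := fun q => ⟨⟨q.1.1, q.2.2.1⟩, q.1.2, q.2.1, q.2.2.2⟩
        invFun := fun q => ⟨(q.1.1, q.2.1), q.2.2.1, q.1.2, q.2.2.2⟩
        left_inv := fun q => rfl
        right_inv := fun q => rfl }
    rw [Nat.card_congr (e (· ∈ H)), Nat.card_congr (e fun b => ¬ b ∈ H), Nat.card_sigma, Nat.card_sigma]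
    exact Finset.sum_congr rfl fun a _ => key a.1 a.2
  have hPbO : N (fun a b => Pb a ∧ ¬ b ∈ H) = N (fun a b => a ∈ H ∧ b ∉ H) :=
    Nat.card_congr (Equiv.subtypeEquivRight fun q => ⟨fun h => ⟨h.1, h.2.1.1, h.2.2⟩,
      fun h => ⟨h.1, ⟨h.2.1, fun hc => h.2.2 (hc _ h.1.symm)⟩, h.2.2⟩⟩)
  have ha' : N (fun a _ => a ∈ H ∧ ∀ z, Commute z a → z ∈ H) = Nat.card {C : ConjClasses G // ∃ x, ConjClasses.mk x = C ∧ Pa x} * Nat.card G := ha
  have hb' : N (fun a _ => Pb a) = Nat.card {C : ConjClasses G // ∃ x, ConjClasses.mk x = C ∧ Pb x} * Nat.card G := hb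
  have hHpos : 0 < Nat.card H := Nat.card_pos
  refine Nat.eq_of_mul_eq_mul_right hHpos ?_
  show 2 * Nat.card (ConjClasses H) * Nat.card H = (Nat.card (ConjClasses G) +
    3 * Nat.card {C : ConjClasses G // ∃ x, ConjClasses.mk x = C ∧ Pa x}) * Nat.card H
  rw [hcard] at ha' hb' hall
  simp only [hPb] at hb' s4 hhalf hPbO
  nlinarith

end Cfsg.Agent.CN9
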