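import Cfsg.Agent.ClassNum9.Omega.Crit
import Cfsg.Agent.ClassNum9.Iso.Normal
import Cfsg.Agent.CG26.QuadClass

/-!
A centraliser inside Omega excludes repeated linear kinds.
-/

set_option autoImplicit false

namespace Cfsg.Agent.CN9

open Module Polynomial

universe u

variable {F : Type u} [Field F] [Fintype F] {ι : Type} [Fintype ι] [DecidableEq ι] {Q : QuadraticForm F (ι → F)}

/-- a linear kind occurs only once -/
theorem CentInOmega.no_repeat (h2 : (2 : F) ≠ 0) (hQ : (QuadraticMap.polarBilin Q).Nondegenerate)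
    (hn : 2 ≤ Fintype.card ι) (hN : Odd (Fintype.card ι)) {g : ↥(Cfsg.isometryGroup F ⇑Q)} (hg : CentInOmega g)
    {s : F} (hs : s = 1 ∨ s = -1) {e : ℕ} (he : Odd e) {ν1 ν2 : Bool} {R : Multiset ((F[X] × ℕ) × Bool)}
    (hM : Decomp (1 : F) (QuadraticMap.polarBilin Q) (isoEquiv g) ⊤
      (((X - C s, e), ν1) ::ₘ ((X - C s, e), ν2) ::ₘ R)) : False := by
  classical
  set B : LinearMap.BilinForm F (ι → F) := QuadraticMap.polarBilin Q
  have h := formAut_isoEquiv g
  obtain ⟨W1, M1, hW1, hle1, hMM1, hd1⟩ := hM.front h (Multiset.mem_cons_self _ _)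
  rw [Multiset.cons_inj_right] at hMM1
  subst hMM1
  obtain ⟨W2, M2, hW2, hle2, -, -⟩ := hd1.front h (Multiset.mem_cons_self _ _)
  obtain rfl : ν1 = ν2 := hg.label_unique h2 hQ hn hN hg hs he hW1 hW2
  have hW1' := hW1
  obtain ⟨he1, hz1⟩ := hW1
  obtain ⟨-, hz2⟩ := hW2
  simp only at he1
  rcases hz1 with ⟨hP, -⟩ | ⟨s1, -, hP, hsign, v1, hv1, hν1⟩ | ⟨s1, -, hP, -⟩
  · obtain ⟨-, h1, h1', -⟩ := hP
    rcases hs with rfl | rfl
    · exact h1 (by simp)
    · exact h1' (by simp)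
  swap
  · have := congrArg natDegree hP
    simp only at this
    rw [natDegree_pow, natDegree_X_sub_C, natDegree_X_sub_C] at this
    omega
  rcases hz2 with ⟨hP', -⟩ | ⟨s2, -, hP', -, v2, hv2, hν2⟩ | ⟨s2, -, hP', -⟩
  · obtain ⟨-, h1, h1', -⟩ := hP'
    rcases hs with rfl | rfl
    · exact h1 (by simp)
    · exact h1' (by simp)
  swap
  · have := congrArg natDegree hP'
    simp only at this
    rw [natDegree_pow, natDegree_X_sub_C, natDegree_X_sub_C] at this
    omega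
  simp only at hP hP' hv1 hv2 hν1 hν2 hsign
  obtain rfl : s = s1 := by simpa using hP
  obtain rfl : s = s2 := by simpa using hP'
  set E := (X - C s) ^ (e - 1) with hE
  set L1 := B v1 (pev (isoEquiv g) E v1) with hL1
  set L2 := B v2 (pev (isoEquiv g) E v2) with hL2
  have hL10 : L1 ≠ 0 := hv1.lead_ne he1
  have hL20 : L2 ≠ 0 := hv2.lead_ne he1
  obtain ⟨c, hc⟩ := FiniteField.exists_nonsquare (F := F) fun hch => h2 (by
    haveI := ringChar.of_eq hch
    exact CharP.cast_eq_zero F 2)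
  have hc0 : c ≠ 0 := fun h0 => hc (h0 ▸ IsSquare.zero)
  obtain ⟨a, b, hab⟩ := CG26.binary_represents h2 hL10 hL20 (c * L1)
  set v := a • v1 + b • v2 with hv
  have hmem1 : v1 ∈ W1 := by simpa using hv1.1 1
  have hmem2 : v2 ∈ W2 := by simpa using hv2.1 1
  have horth : ∀ x ∈ W1, ∀ y ∈ W2, B x y = 0 ∧ B y x = 0 := fun x hx y hy =>
    ⟨(hle2 hy).2 x hx, by rw [h.symm, (hle2 hy).2 x hx, mul_zero]⟩
  have hlv : B v (pev (isoEquiv g) E v) = c * L1 := by
    rw [hv]
    simp only [map_add, map_smul, LinearMap.add_apply, LinearMap.smul_apply, smul_eq_mul,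
      (horth v1 hmem1 _ (hv2.1 E)).1, (horth _ (hv1.1 E) v2 hmem2).2, ← hL1, ← hL2]
    linear_combination hab
  have hQv : pev (isoEquiv g) ((X - C s) ^ e) v = 0 := by
    rw [hv, map_add, map_smul, map_smul, hv1.2.2.1, hv2.2.2.1, smul_zero, smul_zero, add_zero]
  have hcy : IsCyc B (isoEquiv g) (cycSpan (isoEquiv g) v) ((X - C s) ^ e) v :=
    isCyc_irreducible h (irreducible_X_sub_C s) hQv (r0 := 1)
      (by rw [mul_one, hlv]; exact mul_ne_zero hc0 hL10)
  have hW' : IsPiece (1 : F) B (isoEquiv g) (cycSpan (isoEquiv g) v) ((X - C s, e), !ν1) :=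
    ⟨he1, Or.inr (Or.inl ⟨s, hs, rfl, hsign, v, hcy, by
      simp only
      rw [hlv, ← quadraticChar_neg_one_iff_not_isSquare] at *
      rw [map_mul, hc]
      rcases quadraticChar_dichotomy hL10 with hd | hd <;> rw [hd] at hν1 ⊢ <;> cases ν1 <;> simp_all⟩)⟩
  have hne := hg.label_unique h2 hQ hn hN hg hs he hW1' hW'
  cases ν1 <;> simp at hne

end Cfsg.Agent.CN9
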