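import Cfsg.Agent.ClassNum9.Omega.SplitMap
import Cfsg.Agent.ClassNum9.Omega.Index2
import Cfsg.Agent.ClassNum9.Orth.Lower
import Cfsg.Agent.Forms59.OmegaTools
import Cfsg.Agent.HeckeCentre82.Main

/-!
Class number bounds for Omega in odd dimension, odd characteristic.
-/

set_option autoImplicit false
set_option maxHeartbeats 400000

namespace Cfsg.Agent.CN9

open Polynomial Matrix
open Cfsg.Agent.Reflections (mat act)

universe u

variable {F : Type u} [Field F] [Fintype F] {ι : Type} [Fintype ι] [DecidableEq ι]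

theorem card_classes_O_odd_le (hodd : Odd (Fintype.card F)) (Q : QuadraticForm F (ι → F))
    (hQ : (QuadraticMap.polarBilin Q).Nondegenerate) {n : ℕ} (hι : Fintype.card ι = 2 * n + 1) :
    (Nat.card (ConjClasses ↥(Cfsg.isometryGroup F ⇑Q)) : ℝ) ≤ 141 / 10 * (Fintype.card F : ℝ) ^ n := by
  have h := two_mul_card_classes_le hodd Q hQ
  rw [sum_bitShare] at h
  have h0 : bitShare (Fintype.card ι) (fun (_ : Fin 4) (_ : Fin ((Fintype.card ι + 1) / 2)) => false) = 0 := by
    rw [bitShare, if_neg]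
    simp [bitsWt, hι, Nat.even_add_one]
  rw [h0, add_zero, (show Odd (Fintype.card ι) from ⟨n, hι⟩).neg_one_pow,
    show Fintype.card ι % 2 = 1 by omega, show Fintype.card ι / 2 = n by omega, pow_one] at h
  obtain ⟨b0, b1⟩ := orth_B_le ((Fintype.card ι + 1) / 2)
  have hB := pow_le_pow_left₀ b0 b1 4
  have hC : 0 ≤ (∏ l ∈ Finset.range ((Fintype.card ι + 1) / 2), (1 - rt3 ^ (2 * l + 1))) ^ 4 := by positivity
  refine le_of_mul_le_mul_left (h.trans ?_) two_pos
  rw [← mul_assoc (2 : ℝ)]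
  refine mul_le_mul_of_nonneg_right ?_ (by positivity)
  norm_num [rt3] at hB hC ⊢
  linarith

variable (Q : QuadraticForm F (ι → F))

/-- the determinant of an isometry -/
noncomputable def isoDet : ↥(Cfsg.isometryGroup F ⇑Q) →* Fˣ :=
  Matrix.GeneralLinearGroup.det.comp (Cfsg.isometryGroup F ⇑Q).subtype

omit [Fintype F] in
theorem mem_isoDet_ker (x : ↥(Cfsg.isometryGroup F ⇑Q)) : x ∈ (isoDet Q).ker ↔ (mat x).det = 1 := by
  rw [MonoidHom.mem_ker, isoDet, MonoidHom.comp_apply, Subgroup.coe_subtype, Units.ext_iff]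
  rfl

/-- doubling special classes -/
theorem card_det_classes_le (hQnd : (QuadraticMap.polarBilin Q).Nondegenerate) (h2 : (2 : F) ≠ 0) (hN : Odd (Fintype.card ι)) (R : ↥(isoDet Q).ker → Prop)
    (R' : ↥(Cfsg.isometryGroup F ⇑Q) → Prop)
    (hR : ∀ (x : ↥(isoDet Q).ker) (z : ↥(Cfsg.isometryGroup F ⇑Q)), (z = 1 ∨ (mat z = -1 ∧ ∀ y, Commute z y)) →
      R x → R' (z * x)) :
    2 * Nat.card {C : ConjClasses ↥(isoDet Q).ker // ∃ x, ConjClasses.mk x = C ∧ R x} ≤
      Nat.card {C : ConjClasses ↥(Cfsg.isometryGroup F ⇑Q) // ∃ x, ConjClasses.mk x = C ∧ R' x} := by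
  classical
  obtain ⟨z, hz, hzc⟩ := exists_neg_one Q
  let G := ↥(Cfsg.isometryGroup F ⇑Q)
  let s : Bool → G := fun b => if b then z else 1
  have hs : ∀ b, s b = 1 ∨ (mat (s b) = -1 ∧ ∀ y, Commute (s b) y) := fun b => by
    cases b
    · exact Or.inl rfl
    · exact Or.inr ⟨hz, hzc⟩
  have hsdet : ∀ b, (mat (s b)).det = if b then -1 else 1 := fun b => by
    cases b
    · simp [s, mat]
    · simp [s, hz, Matrix.det_neg, hN.neg_one_pow]
  have hscomm : ∀ b y, Commute (s b) y := fun b y => by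
    cases b
    · exact Commute.one_left y
    · exact hzc y
  choose x hx hxR using fun C : {C : ConjClasses ↥(isoDet Q).ker // ∃ x, ConjClasses.mk x = C ∧ R x} => C.2
  let Φ : {C : ConjClasses ↥(isoDet Q).ker // ∃ x, ConjClasses.mk x = C ∧ R x} × Bool →
      {C : ConjClasses G // ∃ x, ConjClasses.mk x = C ∧ R' x} := fun p =>
    ⟨ConjClasses.mk (s p.2 * (x p.1).1), _, rfl, hR (x p.1) (s p.2) (hs p.2) (hxR p.1)⟩
  have hΦ : Function.Injective Φ := by
    rintro ⟨C, b⟩ ⟨C', b'⟩ h
    obtain ⟨c, hc⟩ := isConj_iff.1 (ConjClasses.mk_eq_mk_iff_isConj.1 (congrArg Subtype.val h))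
    simp only at hc
    obtain rfl : b = b' := by
      have e := congrArg (isoDet Q) hc
      have hval : ∀ g : G, ((isoDet Q g : Fˣ) : F) = (mat g).det := fun g => rfl
      simp only [map_mul, map_inv] at e
      rw [MonoidHom.mem_ker.1 (x C).2, MonoidHom.mem_ker.1 (x C').2, mul_one, mul_one, mul_inv_cancel_comm] at e
      replace e := congrArg Units.val e
      rw [hval, hval] at e
      rw [hsdet, hsdet] at e
      have hne : (-1 : F) ≠ 1 := fun h1 => h2 (by rw [← one_add_one_eq_two]; nth_rw 1 [← h1]; exact neg_add_cancel 1)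
      cases b <;> cases b' <;> simp only [Bool.false_eq_true, if_false, if_true] at e <;>
        first | rfl | exact absurd e hne | exact absurd e.symm hne
    have hc' : c * (x C).1 * c⁻¹ = (x C').1 := by
      have e : c * (s b * (x C).1) * c⁻¹ = s b * (c * (x C).1 * c⁻¹) := by
        simp only [mul_assoc]
        rw [← mul_assoc c (s b), (hscomm b c).symm.eq, mul_assoc]
      rw [e] at hc
      exact mul_left_cancel hc
    obtain ⟨b2, hb2⟩ : ∃ b2, s b2 * c ∈ (isoDet Q).ker := by
      have hcu : (mat c).det = 1 ∨ (mat c).det = -1 := by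
        obtain ⟨J, hJu, -, -, hpres⟩ := Forms59.Jordan.exists_polar_matrix Q (by
          exact (show (QuadraticMap.polarBilin Q).Nondegenerate from hQnd))
        have e := congrArg Matrix.det (hpres (mat c) fun v => c.2 v v)
        rw [Matrix.det_mul, Matrix.det_mul, Matrix.det_transpose] at e
        exact mul_self_eq_one_iff.1 (mul_right_cancel₀ ((Matrix.isUnit_iff_isUnit_det J).1 hJu).ne_zero
          (by linear_combination e))
      rcases hcu with hd | hd
      · exact ⟨false, by rw [mem_isoDet_ker, mat_mul_det, hsdet, hd]; simp⟩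
      · exact ⟨true, by rw [mem_isoDet_ker, mat_mul_det, hsdet, hd]; simp⟩
    refine Prod.ext (Subtype.ext ?_) rfl
    rw [← hx C, ← hx C', ConjClasses.mk_eq_mk_iff_isConj]
    refine isConj_iff.2 ⟨⟨_, hb2⟩, Subtype.ext ?_⟩
    simp only [Subgroup.coe_mul, Subgroup.coe_inv, _root_.mul_inv_rev]
    calc s b2 * c * (x C).1 * (c⁻¹ * (s b2)⁻¹) = s b2 * (c * (x C).1 * c⁻¹) * (s b2)⁻¹ := by simp only [mul_assoc]
      _ = (x C').1 := by rw [hc', (hscomm b2 _).eq, mul_inv_cancel_right]
  have := Nat.card_le_card_of_injective Φ hΦ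
  rw [Nat.card_prod, Nat.card_eq_fintype_card (α := Bool), Fintype.card_bool, mul_comm] at this
  exact this

theorem omega_index (h2 : (2 : F) ≠ 0) (hQ : (QuadraticMap.polarBilin Q).Nondegenerate) (hN : Odd (Fintype.card ι))
    (hn : 2 ≤ Fintype.card ι) :
    Cfsg.Omega F ⇑Q ≤ (isoDet Q).ker ∧ ((Cfsg.Omega F ⇑Q).subgroupOf (isoDet Q).ker).index = 2 := by
  classical
  have h4 : Fintype.card F ≠ 2 ∨ Fintype.card ι ≠ 4 := Or.inr fun h => by
    rw [h] at hN
    exact absurd hN (by decide)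
  have hle : Cfsg.Omega F ⇑Q ≤ (isoDet Q).ker := fun x hx => Abelianization.commutator_subset_ker (isoDet Q) hx
  refine ⟨hle, ?_⟩
  let B := QuadraticMap.polarBilin Q
  obtain ⟨b, hboff, hne, -⟩ := exists_orth_discChi (F := F) h2 (polarBilin_symm' (Q := Q)) (polar_ndOn_top hQ)
  have hfr : Module.finrank F (⊤ : Submodule F (ι → F)) = Fintype.card ι := by
    rw [finrank_top, Module.finrank_fintype_fun_eq_card]
  have hQb : ∀ i, Q (b i : ι → F) ≠ 0 := fun i h0 => hne i (by
    rw [QuadraticMap.polarBilin_apply_apply, QuadraticMap.polar_self, h0]; simp)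
  obtain ⟨c, hc⟩ := FiniteField.exists_nonsquare (F := F) fun hch => h2 (by
    haveI := ringChar.of_eq hch
    exact CharP.cast_eq_zero F 2)
  -- vectors with values in both classes
  set v1 : ι → F := (b ⟨0, by omega⟩ : ι → F) with hv1
  set v2 : ι → F := (b ⟨1, by omega⟩ : ι → F) with hv2
  obtain ⟨s, t, hst⟩ := CG26.binary_represents h2 (hQb ⟨0, by omega⟩) (hQb ⟨1, by omega⟩) (c * Q v1)
  have horth : QuadraticMap.polar ⇑Q v1 v2 = 0 := by
    exact hboff ⟨0, by omega⟩ ⟨1, by omega⟩ (by simp [Fin.ext_iff])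
  set w : ι → F := s • v1 + t • v2 with hw
  have hQw : Q w = c * Q v1 := by
    have e : Q (s • v1 + t • v2) = Q (s • v1) + Q (t • v2) + QuadraticMap.polar ⇑Q (s • v1) (t • v2) := by
      simp [QuadraticMap.polar]
    rw [hw, e, QuadraticMap.map_smul, QuadraticMap.map_smul, QuadraticMap.polar_smul_left,
      QuadraticMap.polar_smul_right, horth]
    simp only [smul_eq_mul, mul_zero, add_zero]
    linear_combination hst
  have hc0 : c ≠ 0 := fun h0 => hc (h0 ▸ IsSquare.zero)
  have hQv1 : Q v1 ≠ 0 := hQb _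
  have hvs : ∀ v ∈ [v1, w], Q v ≠ 0 := by
    intro v hv
    simp only [List.mem_cons, List.not_mem_nil, or_false] at hv
    rcases hv with rfl | rfl
    · exact hQv1
    · rw [hQw]; exact mul_ne_zero hc0 hQv1
  have hnot : Forms59.reflProd Q [v1, w] ∉ Cfsg.Omega F ⇑Q := fun hmem => by
    have := ((Forms59.reflProd_mem_omega_iff h2 hQ hn _ hvs).1 hmem).2
    simp only [List.map_cons, List.map_nil, List.prod_cons, List.prod_nil, mul_one, hQw] at this
    obtain ⟨r, hr⟩ := this
    exact hc ⟨r / Q v1, by field_simp; linear_combination hr⟩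
  have hker : Forms59.reflProd Q [v1, w] ∈ (isoDet Q).ker := by
    rw [mem_isoDet_ker, reflProd_det _ hvs]; simp
  rw [Subgroup.index_eq_two_iff]
  refine ⟨⟨_, hker⟩, fun x => ?_⟩
  simp only [Subgroup.mem_subgroupOf, Subgroup.coe_mul]
  obtain ⟨us, hus, hxu⟩ := Forms59.exists_reflProd hQ h4 (x : ↥(Cfsg.isometryGroup F ⇑Q))
  have hlen : Even us.length := by
    have h1 := (mem_isoDet_ker Q _).1 x.2
    rw [hxu, reflProd_det us hus, neg_one_pow_eq_one_iff_even] at h1
    · exact h1
    · exact fun h1' => h2 (by rw [← one_add_one_eq_two]; nth_rw 1 [← h1']; exact neg_add_cancel 1)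
  have hall : ∀ v ∈ us ++ [v1, w], Q v ≠ 0 := fun v hv => (List.mem_append.1 hv).elim (hus v) (hvs v)
  rw [hxu, ← Forms59.reflProd_append, Forms59.reflProd_mem_omega_iff h2 hQ hn _ hus,
    Forms59.reflProd_mem_omega_iff h2 hQ hn _ hall]
  have heven : Even (us ++ [v1, w]).length := by
    rw [List.length_append]; exact hlen.add ⟨1, rfl⟩
  have hp : (us.map fun v => Q v).prod ≠ 0 := List.prod_ne_zero fun h0 => by
    obtain ⟨v, hv, hv0⟩ := List.mem_map.1 h0
    exact hus v hv hv0
  simp only [hlen, heven, true_and, List.map_append, List.prod_append, List.map_cons, List.map_nil, List.prod_cons,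
    List.prod_nil, mul_one, hQw]
  rw [show (us.map fun v => Q v).prod * (Q v1 * (c * Q v1)) = Q v1 ^ 2 * (c * (us.map fun v => Q v).prod) by ring,
    Forms59.isSquare_sq_mul_iff hQv1]
  have key : IsSquare (c * (us.map fun v => Q v).prod) ↔ ¬ IsSquare (us.map fun v => Q v).prod := by
    rw [← quadraticChar_one_iff_isSquare (mul_ne_zero hc0 hp), ← quadraticChar_neg_one_iff_not_isSquare, map_mul,
      quadraticChar_neg_one_iff_not_isSquare.2 hc]
    constructor <;> intro h <;> linarith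
  by_cases hsq : IsSquare (us.map fun v => Q v).prod <;> simp [key, hsq, Xor']

theorem card_classes_omega_odd (hodd : Odd (Fintype.card F)) (hQ : (QuadraticMap.polarBilin Q).Nondegenerate) {n : ℕ}
    (hn : 2 ≤ n) (hι : Fintype.card ι = 2 * n + 1) :
    10 * Nat.card (ConjClasses ↥(Cfsg.Omega F ⇑Q)) ≤ 73 * Fintype.card F ^ n := by
  classical
  have h2 : (2 : F) ≠ 0 := Ring.two_ne_zero fun h => by
    have h1 := FiniteField.even_card_of_char_two (F := F) h
    rw [Nat.odd_iff] at hodd
    omega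
  have hN : Odd (Fintype.card ι) := ⟨n, hι⟩
  have hn2 : 2 ≤ Fintype.card ι := by omega
  obtain ⟨hle, hidx⟩ := omega_index Q h2 hQ hN hn2
  haveI : Fintype ↥(isoDet Q).ker := Fintype.ofFinite _
  have h := index_two_classes hidx
  rw [HeckeCentre82.card_conjClasses_congr (Subgroup.subgroupOfEquivOfLe hle)] at h
  have h1 := card_det_classes_le Q hQ h2 hN (fun _ => True) (fun _ => True) (fun _ _ _ _ => trivial)
  have htop : ∀ {T : Type u} [Group T], Nat.card {C : ConjClasses T // ∃ x, ConjClasses.mk x = C ∧ True} =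
      Nat.card (ConjClasses T) := fun {T} _ =>
    Nat.card_congr (Equiv.subtypeUnivEquiv fun C => by
      obtain ⟨x, rfl⟩ := ConjClasses.exists_rep C
      exact ⟨x, rfl, trivial⟩)
  rw [htop, htop] at h1
  have h3 := card_det_classes_le Q hQ h2 hN
    (fun x => x ∈ (Cfsg.Omega F ⇑Q).subgroupOf (isoDet Q).ker ∧
      ∀ y, Commute y x → y ∈ (Cfsg.Omega F ⇑Q).subgroupOf (isoDet Q).ker) (fun x => CentInOmega x)
    (fun x z hz hx y hy hyd => by
      have hxy : Commute y (x : ↥(Cfsg.isometryGroup F ⇑Q)) := by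
        rcases hz with rfl | ⟨-, hzc⟩
        · rwa [one_mul] at hy
        · have h1 := (((hzc y).symm.inv_right).mul_right hy)
          rwa [inv_mul_cancel_left] at h1
      exact Subgroup.mem_subgroupOf.1 (hx.2 ⟨y, (mem_isoDet_ker Q y).2 hyd⟩ (Subtype.ext hxy.eq)))
  have hO := card_classes_O_odd_le hodd Q hQ hι
  have hS := card_cent_classes_le hodd hQ hn hι
  have h' := Nat.cast_le (α := ℝ).2 h1
  have h3' := Nat.cast_le (α := ℝ).2 h3
  have e := congrArg (Nat.cast (R := ℝ)) h
  rw [← Nat.cast_le (α := ℝ)]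
  push_cast at h' h3' e ⊢
  linarith

end Cfsg.Agent.CN9
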