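import Cfsg.Agent.ClassNum9.Omega.Odd

/-!
Lower bound for the class number of Omega in odd dimension.
-/

set_option autoImplicit false

namespace Cfsg.Agent.CN9

open Polynomial Matrix
open Cfsg.Agent.Reflections (mat act)

universe u

variable {F : Type u} [Field F] [Fintype F] {ι : Type} [Fintype ι] [DecidableEq ι]

theorem card_omega_odd_lower (hodd : Odd (Fintype.card F)) (Q : QuadraticForm F (ι → F))
    (hQ : (QuadraticMap.polarBilin Q).Nondegenerate) {n : ℕ} (hn : 2 ≤ n) (hι : Fintype.card ι = 2 * n + 1) :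
    Fintype.card F ^ n ≤ 2 * Nat.card (ConjClasses ↥(Cfsg.Omega F ⇑Q)) := by
  classical
  have h2 : (2 : F) ≠ 0 := Ring.two_ne_zero fun h => by
    have h1 := FiniteField.even_card_of_char_two (F := F) h
    rw [Nat.odd_iff] at hodd
    omega
  have hN : Odd (Fintype.card ι) := ⟨n, hι⟩
  obtain ⟨hle, hidx⟩ := omega_index Q h2 hQ hN (by omega)
  haveI : Fintype ↥(isoDet Q).ker := Fintype.ofFinite _
  have h := index_two_classes hidx
  rw [HeckeCentre82.card_conjClasses_congr (Subgroup.subgroupOfEquivOfLe hle)] at h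
  obtain ⟨JQ, hJu, hJs, hJQ, -⟩ := Forms59.Jordan.exists_polar_matrix Q hQ
  have hJd : JQ.det ≠ 0 := ((Matrix.isUnit_iff_isUnit_det JQ).1 hJu).ne_zero
  have key : ∀ r : Fin n → F, ∃ g : ↥(isoDet Q).ker,
      (mat g.1).charpoly = palOf n (monicOf n r) * (X - Polynomial.C 1) := by
    intro r
    obtain ⟨hm, hd, -⟩ := monicOf_props n r
    obtain ⟨d, hd0, hdc⟩ : ∃ d : F, d ≠ 0 ∧ ((monicOf n r).eval 2 * (monicOf n r).eval (-2) = 0 ∨
        IsSquare ((-1) ^ n * ((monicOf n r).eval 2 * (monicOf n r).eval (-2)) * d)) := by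
      by_cases h0 : (monicOf n r).eval 2 * (monicOf n r).eval (-2) = 0
      · exact ⟨1, one_ne_zero, Or.inl h0⟩
      · exact ⟨(-1) ^ n * ((monicOf n r).eval 2 * (monicOf n r).eval (-2)),
          mul_ne_zero (pow_ne_zero _ (neg_ne_zero.2 one_ne_zero)) h0, Or.inr ⟨_, rfl⟩⟩
    obtain ⟨J, g, hJ, hg, hJdet, -, hcp⟩ := orthReal_exists h2 n _ hm hd d hd0 hdc
    let σ : (Fin n ⊕ Fin n) ⊕ Fin 1 ≃ ι := Fintype.equivOfCardEq (by simp [hι]; omega)
    set J' := Matrix.reindex σ σ (Matrix.fromBlocks J 0 0 (1 : Matrix (Fin 1) (Fin 1) F)) with hJ'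
    set g' := Matrix.reindex σ σ (Matrix.fromBlocks g 0 0 (1 : Matrix (Fin 1) (Fin 1) F)) with hg'
    have hpres : g'ᵀ * J' * g' = J' := by
      rw [hg', hJ', Matrix.transpose_reindex, Matrix.reindex_apply, Matrix.reindex_apply, Matrix.reindex_apply,
        Matrix.submatrix_mul_equiv, Matrix.submatrix_mul_equiv, Matrix.fromBlocks_transpose, Matrix.fromBlocks_multiply,
        Matrix.fromBlocks_multiply]
      simp [hg]
    have hJ'd : J'.det ≠ 0 := by
      rw [hJ', Matrix.det_reindex_self, Matrix.det_fromBlocks_zero₂₁, Matrix.det_one, mul_one]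
      exact hJdet
    have hcp' : g'.charpoly = palOf n (monicOf n r) * (X - Polynomial.C 1) := by
      rw [hg', Matrix.charpoly_reindex, Matrix.charpoly_fromBlocks_zero₂₁, hcp, Matrix.charpoly_one, Fintype.card_fin,
        pow_one, map_one]
    obtain ⟨j, c, hj⟩ := GraphAut.sim_of_odd h2 hN (A := J') (B := JQ) hJ'd hJd
      (by rw [hJ', Matrix.transpose_reindex, Matrix.fromBlocks_transpose, hJ]; simp) hJs
    set T : (ι → F) →ₗ[F] (ι → F) := j.conj (Matrix.toLin' g') with hT
    have hTQ : ∀ v, Q (T v) = Q v := fun v => by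
      have h1 : ∀ w, GraphAut.bf J' (g' *ᵥ w) (g' *ᵥ w) = GraphAut.bf J' w w := fun w => by
        simp only [GraphAut.bf_def]
        conv_rhs => rw [← hpres, ← Matrix.mulVec_mulVec, ← Matrix.mulVec_mulVec, Matrix.dotProduct_mulVec w,
          Matrix.vecMul_transpose]
      refine mul_left_cancel₀ h2 ?_
      rw [← hJQ, ← hJQ, ← GraphAut.bf_def, ← GraphAut.bf_def]
      show GraphAut.bf JQ (j (Matrix.toLin' g' (j.symm v))) (j (Matrix.toLin' g' (j.symm v))) = _
      rw [hj, Matrix.toLin'_apply, h1, ← hj, j.apply_symm_apply]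
    have hdet : (LinearMap.toMatrix' T).charpoly = palOf n (monicOf n r) * (X - Polynomial.C 1) := by
      rw [← Matrix.charpoly_toLin' (LinearMap.toMatrix' T), Matrix.toLin'_toMatrix', hT, LinearEquiv.charpoly_conj,
        Matrix.charpoly_toLin', hcp']
    have hd1 : (LinearMap.toMatrix' T).det = 1 := by
      have hc0 : (palOf n (monicOf n r)).coeff 0 = 1 := by
        rw [coeff_zero_eq_eval_zero, palOf, eval_finsetSum, Finset.sum_eq_single n]
        · have h1 := hm.coeff_natDegree
          rw [hd] at h1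
          simp [h1]
        · intro k hk hkn
          rw [Finset.mem_range] at hk
          simp [zero_pow (show n - k ≠ 0 by omega)]
        · simp
      rw [Matrix.det_eq_sign_charpoly_coeff, hdet, mul_coeff_zero, hc0, hN.neg_one_pow]
      simp
    have hu : IsUnit (LinearMap.toMatrix' T) := by
      rw [Matrix.isUnit_iff_isUnit_det, hd1]; exact isUnit_one
    let x : ↥(Cfsg.isometryGroup F ⇑Q) := ⟨hu.unit, fun v w => by
      show Q (LinearMap.toMatrix' T *ᵥ v) = Q v
      rw [LinearMap.toMatrix'_mulVec]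
      exact hTQ v⟩
    exact ⟨⟨x, (mem_isoDet_ker Q x).2 hd1⟩, hdet⟩
  choose g hg using key
  have hinj : Function.Injective fun r : Fin n → F => ConjClasses.mk (g r) := by
    intro r r' hr
    obtain ⟨c, hc⟩ := isConj_iff.1 (ConjClasses.mk_eq_mk_iff_isConj.1 hr)
    have hcp : (mat (g r).1).charpoly = (mat (g r').1).charpoly := by
      rw [← hc]
      simp only [mat, Subgroup.coe_mul, Subgroup.coe_inv, Units.val_mul, Matrix.coe_units_inv]
      exact (Matrix.charpoly_units_conj _ _).symm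
    rw [hg, hg] at hcp
    obtain ⟨hm, hd, hc1⟩ := monicOf_props n r
    obtain ⟨hm', hd', hc'⟩ := monicOf_props n r'
    have h3 := palOf_injective hm hd hm' hd' (mul_right_cancel₀ (X_sub_C_ne_zero 1) hcp)
    exact funext fun i => by rw [← hc1 i, h3, hc' i]
  have hlow := Nat.card_le_card_of_injective _ hinj
  rw [Nat.card_fun, Nat.card_fin, Nat.card_eq_fintype_card (α := F)] at hlow
  omega

end Cfsg.Agent.CN9
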