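import Cfsg.Agent.ClassNum9.Omega.Crit
import Cfsg.Agent.ClassNum9.Sp.RegPoly
import Cfsg.Agent.Lib.GLSemisimple.DualPoly

/-!
A centraliser inside Omega excludes regular pieces of exponent one.
-/

set_option autoImplicit false

namespace Cfsg.Agent.CN9

open Module Polynomial Matrix Cfsg.Agent.GLSemi
open Cfsg.Agent.Reflections (act refl mat)
open Cfsg.Agent.Forms59 (reflProd)

universe u

variable {F : Type u} [Field F] [Fintype F]

omit [Fintype F] in
theorem isUnit_fixed {P : F[X]} (hP : IsReg P) {τ : AdjoinRoot (P ^ 1) →ₐ[F] AdjoinRoot (P ^ 1)}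
    (hτr : τ (AdjoinRoot.root (P ^ 1)) * AdjoinRoot.root (P ^ 1) = 1) {z : AdjoinRoot (P ^ 1)} (hfix : τ z = z)
    (hz : z ≠ 0) : IsUnit z := by
  obtain ⟨p, rfl⟩ := AdjoinRoot.mk_surjective z
  have hPp : ¬ P ∣ p := fun h => hz (AdjoinRoot.mk_eq_zero.2 (by rwa [pow_one]))
  obtain ⟨hsd, -, -, hirr⟩ := hP
  rcases hirr with hirr | ⟨f, hf, hfm, hf0, hne, hfP⟩
  · refine isUnit_mk ?_
    rw [pow_one]
    exact (hirr.coprime_iff_not_dvd.2 hPp).symm
  have hid : ∀ a : F, (RingHom.id F) ((RingHom.id F) a) = a := fun a => rfl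
  have hff : Irreducible (dual (RingHom.id F) f) := irreducible_dual _ hid hf hfm hf0
  have hcop : IsCoprime f (dual (RingHom.id F) f) := hf.coprime_iff_not_dvd.2 fun h =>
    hne (eq_of_monic_of_associated (monic_dual _ hf0) hfm (hf.associated_of_dvd hff h).symm)
  let x : (AdjoinRoot (P ^ 1))ˣ := ⟨AdjoinRoot.root (P ^ 1), τ (AdjoinRoot.root (P ^ 1)), by rw [mul_comm, hτr], hτr⟩
  have hswap : ∀ k : F[X], Irreducible k → k ∣ P → k.coeff 0 ≠ 0 → k ∣ p → dual (RingHom.id F) k ∣ P →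
      Irreducible (dual (RingHom.id F) k) → dual (RingHom.id F) k ∣ p := by
    intro k hk hkP hk0 hkp hdP hdirr
    obtain ⟨m, rfl⟩ := hkp
    have h1 : τ (AdjoinRoot.mk (P ^ 1) k) * AdjoinRoot.root (P ^ 1) ^ k.natDegree = AdjoinRoot.mk (P ^ 1) k.reverse := by
      rw [← AdjoinRoot.aeval_eq, ← aeval_algHom_apply, ← AdjoinRoot.aeval_eq]
      exact (aeval_reverse x k).symm
    have h2 : AdjoinRoot.mk (P ^ 1) (k * m * X ^ k.natDegree) =
        AdjoinRoot.mk (P ^ 1) k.reverse * τ (AdjoinRoot.mk (P ^ 1) m) := by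
      rw [← h1, mul_right_comm (τ _), ← map_mul τ, ← map_mul (AdjoinRoot.mk (P ^ 1)) k m, hfix,
        map_mul (AdjoinRoot.mk (P ^ 1)) (k * m), map_pow, AdjoinRoot.mk_X]
    obtain ⟨m', hm'⟩ := AdjoinRoot.mk_surjective (τ (AdjoinRoot.mk (P ^ 1) m))
    rw [← hm', ← map_mul, AdjoinRoot.mk_eq_mk, pow_one] at h2
    have h3 : dual (RingHom.id F) k ∣ k.reverse := by
      rw [dual, RingHom.id_apply, Polynomial.map_id]
      exact Dvd.intro_left (C (k.coeff 0)) (by rw [← mul_assoc, ← C_mul, mul_inv_cancel₀ hk0, C_1, one_mul])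
    have h4 : dual (RingHom.id F) k ∣ k * m * X ^ k.natDegree := by
      have := dvd_add (hdP.trans h2) (dvd_mul_of_dvd_left h3 m')
      rwa [sub_add_cancel] at this
    refine (hdirr.prime.dvd_or_dvd h4).resolve_right fun hX => ?_
    obtain ⟨c, hc⟩ := hdirr.prime.dvd_of_dvd_pow hX
    exact absurd (congrArg (fun q => q.coeff 0) hc) (by
      simp only [coeff_X_zero, mul_coeff_zero]
      exact fun h => mul_ne_zero (coeff_zero_ne_of_dvd hdP hsd.2.1) (fun hc0 => by
        rcases hdirr.isUnit_or_isUnit (show dual (RingHom.id F) k = dual (RingHom.id F) k * 1 by rw [mul_one]) with hu | hu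
        · exact hdirr.not_isUnit hu
        · obtain ⟨c', rfl⟩ := X_dvd_iff.2 hc0
          have hcancel : dual (RingHom.id F) k * c' = 1 := mul_left_cancel₀ X_ne_zero (by linear_combination -hc)
          exact hdirr.not_isUnit (IsUnit.of_mul_eq_one _ hcancel)) h.symm)
  have hfd : f ∣ P := ⟨_, hfP⟩
  have hdd : dual (RingHom.id F) f ∣ P := ⟨f, by rw [hfP]; ring⟩
  refine isUnit_mk ?_
  rw [pow_one, hfP]
  by_cases hfp : f ∣ p
  · exact absurd (hfP ▸ hcop.mul_dvd hfp (hswap f hf hfd hf0 hfp hdd hff)) hPp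
  by_cases hdp : dual (RingHom.id F) f ∣ p
  · have h1 := hswap _ hff hdd (by rw [coeff_zero_dual _ hfm]; exact inv_ne_zero hf0) hdp
      (by rw [dual_dual _ hid hfm hf0]; exact hfd) (by rw [dual_dual _ hid hfm hf0]; exact hf)
    rw [dual_dual _ hid hfm hf0] at h1
    exact absurd h1 hfp
  exact ((hf.coprime_iff_not_dvd.2 hfp).symm).mul_right (hff.coprime_iff_not_dvd.2 hdp).symm

variable {ι : Type} [Fintype ι] [DecidableEq ι] {Q : QuadraticForm F (ι → F)}

/-- no regular pieces of exponent one -/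
theorem CentInOmega.no_reg_one (h2 : (2 : F) ≠ 0) (hQ : (QuadraticMap.polarBilin Q).Nondegenerate)
    (hn : 2 ≤ Fintype.card ι) {g : ↥(Cfsg.isometryGroup F ⇑Q)} (hg : CentInOmega g) {P : F[X]} (hP : IsReg P)
    {ν : Bool} {W : Submodule F (ι → F)}
    (hW : IsPiece (1 : F) (QuadraticMap.polarBilin Q) (isoEquiv g) W ((P, 1), ν)) : False := by
  classical
  have haut := formAut_isoEquiv g
  obtain ⟨hWi, hWnd, -⟩ := piece_props h2 haut hW
  obtain ⟨-, hz⟩ := hW
  obtain ⟨v, hv⟩ : ∃ v, IsCyc (QuadraticMap.polarBilin Q) (isoEquiv g) W (P ^ 1) v := by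
    rcases hz with ⟨-, -, v, hv⟩ | ⟨s, hs, hPs, -⟩ | ⟨s, hs, hPs, -⟩
    · exact ⟨v, hv⟩
    all_goals exfalso; simp only at hPs; obtain ⟨-, a, b, -⟩ := hP; rcases hs with rfl | rfl <;> simp [hPs] at a b
  set B : LinearMap.BilinForm F (ι → F) := QuadraticMap.polarBilin Q
  obtain ⟨τ, hτr, hττ⟩ := exists_bar (hP.1.pow 1)
  obtain ⟨ρ, φ, hρinj, hρr, hφnd, hpair, hgρ, hsym, -⟩ := hv.model haut (hP.1.pow 1) hτr
  simp only [one_mul] at hsym
  subst hρr
  haveI : Module.Finite F (AdjoinRoot (P ^ 1)) := (AdjoinRoot.powerBasis' (hP.1.pow 1).1).finite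
  haveI : Finite (AdjoinRoot (P ^ 1)) := Module.finite_of_finite F
  set A := AdjoinRoot (P ^ 1)
  set r : A := AdjoinRoot.root (P ^ 1) with hr
  set η : A := r - τ r with hη
  have hτη : τ η = -η := by rw [hη, map_sub, hττ]; ring
  have hηu : IsUnit η := by
    have hmul : η * r = AdjoinRoot.mk (P ^ 1) (X - C 1) * AdjoinRoot.mk (P ^ 1) (X - C (-1)) := by
      rw [hη, sub_mul, hτr, map_sub, map_sub, AdjoinRoot.mk_X, AdjoinRoot.mk_C, AdjoinRoot.mk_C, map_neg, map_one]
      ring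
    exact isUnit_of_mul_isUnit_left (hmul ▸ (isUnit_mk_X_sub_C hP.2.1 1).mul (isUnit_mk_X_sub_C hP.2.2.1 1))
  -- the fixed field
  haveI hnt : Nontrivial A := AdjoinRoot.nontrivial _ (by
    rw [pow_one, degree_eq_natDegree hP.1.1.ne_zero]
    exact_mod_cast (Nat.pos_iff_ne_zero.1 (IsReg.shape h2 hP).2.2))
  let S := AlgHom.equalizer τ (AlgHom.id F A)
  have hS : IsField S := by
    refine ⟨⟨0, 1, fun h => zero_ne_one (congrArg Subtype.val h)⟩, mul_comm, fun {z} hz => ?_⟩
    have hz' : IsUnit (z : A) := isUnit_fixed hP hτr z.2 (fun h => hz (Subtype.ext h))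
    obtain ⟨w, hw⟩ := hz'.exists_right_inv
    refine ⟨⟨w, ?_⟩, Subtype.ext hw⟩
    show τ w = w
    have h1 : τ (z : A) * τ w = 1 := by rw [← map_mul, hw, map_one]
    rw [show τ (z : A) = z from z.2] at h1
    exact (hz'.mul_right_injective (h1.trans hw.symm))
  letI : Field S := hS.toField
  haveI : Finite S := Finite.of_injective Subtype.val Subtype.val_injective
  obtain ⟨n0, hn0⟩ := FiniteField.exists_nonsquare (F := F) fun hch => h2 (by
    haveI := ringChar.of_eq hch
    exact CharP.cast_eq_zero F 2)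
  obtain ⟨c, hc⟩ := FiniteField.norm_surjective F S n0
  have hc0 : c ≠ 0 := fun h => hn0 (by rw [← hc, h, Algebra.norm_zero]; exact IsSquare.zero)
  obtain ⟨a, hau, hac⟩ := exists_norm_bar hP.1 hP.2.1 hP.2.2.1 1 hτr hττ
    (isUnit_fixed hP hτr c.2 fun h => hc0 (Subtype.ext h)) c.2
  -- the negated eigenspace
  let Am : Submodule F A := LinearMap.ker (τ.toLinearMap + LinearMap.id)
  have hmem : ∀ t, t ∈ Am ↔ τ t = -t := fun t => by
    show τ t + t = 0 ↔ _
    exact add_eq_zero_iff_eq_neg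
  let E : S ≃ₗ[F] Am := LinearEquiv.ofBijective
    (((LinearMap.mulLeft F η).comp S.val.toLinearMap).codRestrict Am fun z => (hmem _).2 (by
      show τ (η * (z : A)) = -(η * (z : A))
      rw [map_mul, hτη, show τ (z : A) = z from z.2, neg_mul]))
    ⟨fun z z' h => Subtype.ext (hηu.mul_right_injective (congrArg Subtype.val h :)), fun t => by
      obtain ⟨η', hη'⟩ := hηu.exists_right_inv
      have h1 : τ η' = -η' := by
        have h' : τ η * τ η' = 1 := by rw [← map_mul, hη', map_one]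
        rw [hτη] at h'
        exact hηu.mul_right_injective (show η * τ η' = η * -η' by linear_combination -h' + hη')
      refine ⟨⟨η' * t, ?_⟩, Subtype.ext ?_⟩
      · show τ (η' * t) = η' * t
        rw [map_mul, h1, (hmem _).1 t.2]; ring
      · show η * (η' * (t : A)) = t
        rw [← mul_assoc, hη', one_mul]⟩
  let K : Am →ₗ[F] Am := (LinearMap.mulLeft F (c : A)).restrict (p := Am) (q := Am) fun t ht => by
    rw [hmem] at ht ⊢
    rw [LinearMap.mulLeft_apply, map_mul, ht, show τ (c : A) = c from c.2, mul_neg]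
  have hK : LinearMap.det K = n0 := by
    rw [← hc, Algebra.norm_apply, show K = (E : S →ₗ[F] Am) ∘ₗ (Algebra.lmul F S c) ∘ₗ (E.symm : Am →ₗ[F] S) from ?_,
      LinearMap.det_conj]
    refine LinearMap.ext fun t => ?_
    obtain ⟨z, rfl⟩ := E.surjective t
    refine Subtype.ext ?_
    simp only [LinearMap.comp_apply, LinearEquiv.coe_coe, E.symm_apply_apply]
    show (c : A) * (η * (z : A)) = η * ((c : A) * (z : A))
    ring
  -- two involutions
  let e1 : Am →ₗ[F] (ι → F) := ρ.comp Am.subtype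
  let ea : Am →ₗ[F] (ι → F) := (ρ.comp (LinearMap.mulLeft F a)).comp Am.subtype
  have he1 : Function.Injective e1 := hρinj.comp Subtype.val_injective
  have hea : Function.Injective ea := hρinj.comp (hau.mul_right_injective.comp Subtype.val_injective)
  have hsplit : ∀ t : A, ∃ tp tm : A, τ tp = tp ∧ τ tm = -tm ∧ t = tp + tm := fun t =>
    ⟨(2 : F)⁻¹ • (t + τ t), (2 : F)⁻¹ • (t - τ t), by rw [map_smul, map_add, hττ, add_comm],
      by rw [map_smul, map_sub, hττ, ← smul_neg, neg_sub],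
      by rw [← smul_add, show t + τ t + (t - τ t) = t + t by ring, ← two_smul F t, inv_smul_smul₀ h2]⟩
  have hcross : ∀ (k tp tm : A), τ k = k → τ tp = tp → τ tm = -tm → φ (k * (tp * tm)) = 0 := by
    intro k tp tm hk hp hm
    have h1 := hsym (k * (tp * tm))
    rw [map_mul τ, map_mul τ, hk, hp, hm, mul_neg, mul_neg, map_neg] at h1
    have h3 : (2 : F) * φ (k * (tp * tm)) = 0 := by linear_combination -h1
    exact (mul_eq_zero.1 h3).resolve_left h2
  have hpa : ∀ x y, B (ρ (a * x)) (ρ (a * y)) = φ ((c : A) * (τ x * y)) := fun x y => by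
    rw [hpair, map_mul τ, ← hac]; congr 1; ring
  have hnd1 : NdOn B (LinearMap.range e1) := by
    rintro _ ⟨t, rfl⟩ ht
    have h0 : (t : A) = 0 := hφnd _ fun s => by
      obtain ⟨sp, sm, hsp, hsm, rfl⟩ := hsplit s
      have h1 := ht (e1 ⟨sm, (hmem _).2 hsm⟩) ⟨_, rfl⟩
      change B (ρ (t : A)) (ρ sm) = 0 at h1
      rw [hpair, (hmem _).1 t.2, neg_mul, map_neg, neg_eq_zero] at h1
      rw [mul_add, map_add, h1, add_zero, mul_comm, ← one_mul (sp * _)]
      exact hcross 1 sp t (map_one τ) hsp ((hmem _).1 t.2)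
    rw [show t = 0 from Subtype.ext h0, map_zero]
  have hnda : NdOn B (LinearMap.range ea) := by
    rintro _ ⟨t, rfl⟩ ht
    have h0 : (c : A) * (t : A) = 0 := hφnd _ fun s => by
      obtain ⟨sp, sm, hsp, hsm, rfl⟩ := hsplit s
      have h1 := ht (ea ⟨sm, (hmem _).2 hsm⟩) ⟨_, rfl⟩
      change B (ρ (a * (t : A))) (ρ (a * sm)) = 0 at h1
      rw [hpa, (hmem _).1 t.2, neg_mul, mul_neg, map_neg, neg_eq_zero] at h1
      rw [mul_assoc, mul_add, mul_add, map_add, h1, add_zero, mul_comm (t : A) sp]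
      exact hcross c sp t c.2 hsp ((hmem _).1 t.2)
    have hcu := isUnit_fixed hP hτr c.2 fun h => hc0 (Subtype.ext h)
    rw [show t = 0 from Subtype.ext (hcu.mul_right_eq_zero.1 h0), map_zero]
  obtain ⟨vs1, hvs1, hlen1, hneg1, hfix1, hchi1⟩ := exists_negList h2 hnd1
  obtain ⟨vsa, hvsa, hlena, hnega, hfixa, hchia⟩ := exists_negList h2 hnda
  have hy1 : ∀ x, act (reflProd Q vs1) (ρ x) = ρ (τ x) := by
    intro x
    obtain ⟨tp, tm, hp, hm, rfl⟩ := hsplit x
    have hperp : ρ tp ∈ perp' B (LinearMap.range e1) := by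
      rintro _ ⟨⟨s, hs⟩, rfl⟩
      change B (ρ s) (ρ tp) = 0
      rw [hpair, (hmem _).1 hs, neg_mul, map_neg, neg_eq_zero, mul_comm, ← one_mul (tp * s)]
      exact hcross 1 tp s (map_one τ) hp ((hmem _).1 hs)
    rw [map_add, Reflections.act_add, hfix1 _ hperp, hneg1 (ρ tm) ⟨⟨tm, (hmem _).2 hm⟩, rfl⟩, map_add τ, hp, hm,
      map_add, map_neg]
  have hya : ∀ x, act (reflProd Q vsa) (ρ (a * x)) = ρ (a * τ x) := by
    intro x
    obtain ⟨tp, tm, hp, hm, rfl⟩ := hsplit x
    have hperp : ρ (a * tp) ∈ perp' B (LinearMap.range ea) := by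
      rintro _ ⟨⟨s, hs⟩, rfl⟩
      change B (ρ (a * s)) (ρ (a * tp)) = 0
      rw [hpa, (hmem _).1 hs, neg_mul, mul_neg, map_neg, neg_eq_zero, mul_comm s tp]
      exact hcross c tp s c.2 hp ((hmem _).1 hs)
    rw [mul_add, map_add, Reflections.act_add, hfixa _ hperp, hnega (ρ (a * tm)) ⟨⟨tm, (hmem _).2 hm⟩, rfl⟩,
      map_add τ, hp, hm, mul_add, map_add, mul_neg, map_neg]
  obtain ⟨a', ha'⟩ := hau.exists_right_inv
  set y := reflProd Q (vsa ++ vs1) with hy
  have hyρ : ∀ x, act y (ρ x) = ρ (a * τ a' * x) := by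
    intro x
    rw [hy, Forms59.reflProd_append, Reflections.act_mul, hy1]
    conv_lhs => rw [show τ x = a * (a' * τ x) by rw [← mul_assoc, ha', one_mul]]
    rw [hya, map_mul τ, hττ, mul_assoc]
  have hvs : ∀ v ∈ vsa ++ vs1, Q v ≠ 0 := fun v hv =>
    (List.mem_append.1 hv).elim (hvsa v) (hvs1 v)
  have hk : finrank F (LinearMap.range ea) = finrank F (LinearMap.range e1) := by
    rw [LinearMap.finrank_range_of_inj hea, LinearMap.finrank_range_of_inj he1]
  have hmemΩ : y ∈ Cfsg.Omega F ⇑Q := by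
    have hperp : ∀ x ∈ perp' B (LinearMap.range ρ), act y x = x := fun x hx => by
      rw [hy, Forms59.reflProd_append, Reflections.act_mul,
        hfix1 x fun w ⟨t, ht⟩ => hx w ⟨t, ht⟩, hfixa x fun w ⟨t, ht⟩ => hx w ⟨a * t, ht⟩]
    refine hg y (commute_of_agree hQ hWnd (fun x hx => ?_) fun x hx => ?_) ?_
    · obtain ⟨t, rfl⟩ := hx
      rw [hyρ, ← isoEquiv_apply g, hgρ, hyρ, ← isoEquiv_apply g, hgρ]
      congr 1; ring
    · rw [hperp x hx, hperp (act g x) (map_perp haut hWi hx)]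
    · rw [reflProd_det _ hvs, List.length_append, hlena, hlen1, hk, Even.neg_one_pow ⟨_, rfl⟩]
  have hsq := ((Forms59.reflProd_mem_omega_iff h2 hQ hn _ hvs).1 hmemΩ).2
  rw [List.map_append, List.prod_append] at hsq
  have hne : (vsa.map fun v => Q v).prod * (vs1.map fun v => Q v).prod ≠ 0 := by
    rw [← List.prod_append, ← List.map_append]
    refine List.prod_ne_zero fun h0 => ?_
    obtain ⟨v, hv, hv0⟩ := List.mem_map.1 h0
    exact hvs v hv hv0
  have hq := (quadraticChar_one_iff_isSquare hne).2 hsq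
  rw [map_mul] at hq
  have hprod : discChi B (LinearMap.range ea) * discChi B (LinearMap.range e1) = 1 := by
    rw [hchia, hchi1, hk, mul_mul_mul_comm, hq, mul_one, ← mul_pow, ← sq, quadraticChar_sq_one h2, one_pow]
  -- the discriminants differ by the norm
  let b := Module.finBasis F Am
  let B1 : LinearMap.BilinForm F Am := B.comp e1 e1
  rw [discChi_basis (b.map (LinearEquiv.ofInjective e1 he1)),
    discChi_basis (b.map (LinearEquiv.ofInjective ea hea))] at hprod
  have hG1 : LinearMap.BilinForm.toMatrix (b.map (LinearEquiv.ofInjective e1 he1)) (B.restrict (LinearMap.range e1)) =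
      LinearMap.BilinForm.toMatrix b B1 := by
    ext i j
    rw [LinearMap.BilinForm.toMatrix_apply, LinearMap.BilinForm.toMatrix_apply]
    rfl
  have hGa : LinearMap.BilinForm.toMatrix (b.map (LinearEquiv.ofInjective ea hea)) (B.restrict (LinearMap.range ea)) =
      LinearMap.BilinForm.toMatrix b (B1.compLeft K) := by
    ext i j
    rw [LinearMap.BilinForm.toMatrix_apply, LinearMap.BilinForm.toMatrix_apply]
    show B (ρ (a * (b i : A))) (ρ (a * (b j : A))) = B (ρ ((c : A) * (b i : A))) (ρ (b j : A))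
    rw [hpa, hpair, map_mul τ, show τ (c : A) = c from c.2, mul_assoc]
  have hd1 : (LinearMap.BilinForm.toMatrix b B1).det ≠ 0 := by
    rw [← hG1]
    exact restrict_det_ne_zero polarBilin_symm' hnd1 _
  rw [hG1, hGa, LinearMap.BilinForm.toMatrix_compLeft, Matrix.det_mul, Matrix.det_transpose,
    LinearMap.det_toMatrix, hK, map_mul, mul_assoc, ← sq, quadraticChar_sq_one hd1, mul_one,
    quadraticChar_neg_one_iff_not_isSquare.2 hn0] at hprod
  norm_num at hprod

end Cfsg.Agent.CN9
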