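import Cfsg.Agent.ClassNum9.Orth.Count

/-!
Codes without a first polynomial.
-/

set_option autoImplicit false

namespace Cfsg.Agent.CN9

open Polynomial Finset

universe u

variable {F : Type u} [Field F] [Fintype F]

theorem card_code0_le (hq : 3 ≤ Fintype.card F) {N : ℕ} (hN : 4 ≤ N) (S : Finset (Fin 4 → Fin ((N + 1) / 2) → Bool)) :
    (Nat.card {x : CodeO F N // codeOWt x = N ∧ x.2 ∈ S ∧ ((x.1 ⟨0, by omega⟩).1 : ℕ) = 0} : ℝ) ≤
      (17854 / 10000 * ∑ b ∈ S, bitShare N b - ∑ b ∈ S.filter (fun b => bitsWt b = 1), bitShare N b) * (Fintype.card F : ℝ) ^ (N / 2) := by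
  classical
  haveI : ∀ d, Finite (SPoly F d) := fun d => (card_SPoly_le d).1
  haveI : ∀ d, Fintype (SPoly F d) := fun d => Fintype.ofFinite _
  obtain ⟨hy0, hy1, hy3⟩ := rt3_props
  have hshare0 : ∀ b ∈ S, 0 ≤ bitShare N b := fun b _ => by
    unfold bitShare
    split_ifs <;> positivity
  obtain ⟨m, rfl⟩ : ∃ m, N = m + 1 := ⟨N - 1, by omega⟩
  set q := Fintype.card F with hqdef
  set n := (m + 1) / 2 with hn
  have hq3 : (3 : ℝ) ≤ q := by exact_mod_cast hq
  set z : ℝ := 1 / (q : ℝ) with hz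
  have hz0 : 0 < z := by positivity
  have hqz : (q : ℝ) * z = 1 := by rw [hz]; field_simp
  have hz3 : z ≤ 1 / 3 := one_div_le_one_div_of_le (by norm_num) hq3
  let T := Σ d : Fin (n + 1), SPoly F d
  let R := (Fin m → T) × {b // b ∈ S}
  let wk : (Fin m → T) → ℕ := fun r => ∑ k : Fin m, ((k : ℕ) + 2) * ((r k).1 : ℕ)
  let rest : {x : CodeO F (m + 1) // codeOWt x = m + 1 ∧ x.2 ∈ S ∧ ((x.1 0).1 : ℕ) = 0} →
      Σ r : R, {t : T // 2 * ((t.1 : ℕ) + wk r.1) + bitsWt r.2.1 = m + 1 ∧ (t.1 : ℕ) = 0} := fun x =>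
    ⟨(fun k => x.1.1 k.succ, ⟨x.1.2, x.2.2.1⟩), x.1.1 0, ⟨by
      have h := x.2.1
      rw [codeOWt, Fin.sum_univ_succ] at h
      simp only [Fin.val_zero, zero_add, one_mul, Fin.val_succ, add_assoc] at h
      simp only [wk]
      rw [show (1 : ℕ) + 1 = 2 from rfl] at h
      exact h, x.2.2.2⟩⟩
  have hinj : Function.Injective rest := by
    intro x y h
    refine Subtype.ext (Prod.ext (funext fun k => ?_) (congrArg (fun p : Σ r : R, {t : T // 2 * ((t.1 : ℕ) + wk r.1) + bitsWt r.2.1 = m + 1 ∧ (t.1 : ℕ) = 0} => p.1.2.1) h))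
    cases k using Fin.cases with
    | zero => exact congrArg (fun p : Σ r : R, {t : T // 2 * ((t.1 : ℕ) + wk r.1) + bitsWt r.2.1 = m + 1 ∧ (t.1 : ℕ) = 0} => p.2.1) h
    | succ k => exact congrArg (fun p : Σ r : R, {t : T // 2 * ((t.1 : ℕ) + wk r.1) + bitsWt r.2.1 = m + 1 ∧ (t.1 : ℕ) = 0} => p.1.1 k) h
  have hfib : ∀ r : R, (Fintype.card {t : T // 2 * ((t.1 : ℕ) + wk r.1) + bitsWt r.2.1 = m + 1 ∧ (t.1 : ℕ) = 0} : ℝ) ≤
      (q : ℝ) ^ n * (z ^ wk r.1 * bitShare (m + 1) r.2.1) := by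
    intro r
    by_cases hcase : Even (bitsWt r.2.1 + (m + 1)) ∧ 2 * wk r.1 + bitsWt r.2.1 ≤ m + 1
    swap
    · rw [Fintype.card_eq_zero_iff.2 ⟨fun t => hcase ⟨by have := t.2.1; rw [Nat.even_iff]; omega, by have := t.2.1; omega⟩⟩]
      have := hshare0 r.2.1 r.2.2
      push_cast
      positivity
    obtain ⟨heven, hle⟩ := hcase
    rw [Nat.even_iff] at heven
    obtain ⟨j, hj⟩ : ∃ j, bitsWt r.2.1 = 2 * j + (m + 1) % 2 := ⟨bitsWt r.2.1 / 2, by omega⟩
    have hD : wk r.1 + j ≤ n := by omega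
    let f : {t : T // 2 * ((t.1 : ℕ) + wk r.1) + bitsWt r.2.1 = m + 1 ∧ (t.1 : ℕ) = 0} → SPoly F (n - (wk r.1 + j)) := fun t =>
      ⟨(t.1.2 : F[X]), by
        obtain ⟨a, b, c⟩ := t.1.2.2
        exact ⟨a, by rw [b]; have := t.2.1; omega, c⟩⟩
    have hf : Function.Injective f := by
      rintro ⟨⟨d, P⟩, hd⟩ ⟨⟨d', P'⟩, hd'⟩ h
      obtain rfl : d = d' := Fin.ext (hd.2.trans hd'.2.symm)
      exact Subtype.ext (congrArg (Sigma.mk d) (Subtype.ext (congrArg Subtype.val h :)))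
    have hc : Fintype.card {t : T // 2 * ((t.1 : ℕ) + wk r.1) + bitsWt r.2.1 = m + 1 ∧ (t.1 : ℕ) = 0} ≤ q ^ (n - (wk r.1 + j)) := by
      refine (Fintype.card_le_of_injective f hf).trans ?_
      rw [← Nat.card_eq_fintype_card]
      exact (card_SPoly_le (F := F) (n - (wk r.1 + j))).2
    refine (Nat.cast_le.2 hc).trans ?_
    rw [bitShare, if_pos (Nat.even_iff.2 heven), hj, pow_add rt3, mul_div_assoc, div_self (pow_ne_zero _ hy0.ne'),
      mul_one, pow_mul]
    calc ((q ^ (n - (wk r.1 + j)) : ℕ) : ℝ) = (q : ℝ) ^ n * (z ^ wk r.1 * z ^ j) := by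
          push_cast
          conv_rhs => rw [show n = (n - (wk r.1 + j)) + (wk r.1 + j) by omega, ← pow_add, pow_add, mul_assoc, ← mul_pow,
            hqz, one_pow, mul_one]
      _ ≤ _ := mul_le_mul_of_nonneg_left (mul_le_mul_of_nonneg_left
          (pow_le_pow_left₀ hz0.le (hz3.trans hy3) j) (by positivity)) (by positivity)
  let o : T := ⟨0, (1 : F[X]), selfDual_one, by simp, by simp⟩
  let r0 : Fin m → T := fun _ => o
  have hwk0 : wk r0 = 0 := by simp [wk, r0, o]
  let f : R → ℝ := fun r => if r.1 = r0 ∧ bitsWt r.2.1 = 1 then 0 else z ^ wk r.1 * bitShare (m + 1) r.2.1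
  have hfib' : ∀ r : R, (Fintype.card {t : T // 2 * ((t.1 : ℕ) + wk r.1) + bitsWt r.2.1 = m + 1 ∧ (t.1 : ℕ) = 0} : ℝ) ≤
      (q : ℝ) ^ n * f r := by
    intro r
    simp only [f]
    split_ifs with hr
    · rw [Fintype.card_eq_zero_iff.2 ⟨fun t => by have h1 := t.2; have h3 : wk r.1 = 0 := hr.1 ▸ hwk0; have h4 := hr.2; omega⟩]
      simp
    · exact hfib r
  have h1 : (Nat.card {x : CodeO F (m + 1) // codeOWt x = m + 1 ∧ x.2 ∈ S ∧ ((x.1 0).1 : ℕ) = 0} : ℝ) ≤
      (q : ℝ) ^ n * ∑ r : R, f r := by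
    rw [mul_sum]
    refine le_trans ?_ (sum_le_sum fun r _ => hfib' r)
    rw [← Nat.cast_sum, ← Fintype.card_sigma, ← Nat.card_eq_fintype_card (α := Σ r : R, _)]
    exact Nat.cast_le.2 (Nat.card_le_card_of_injective rest hinj)
  refine h1.trans ?_
  rw [mul_comm _ ((q : ℝ) ^ n)]
  refine mul_le_mul_of_nonneg_left ?_ (by positivity)
  have hf : ∀ r : R, f r = z ^ wk r.1 * bitShare (m + 1) r.2.1 -
      (if r.1 = r0 then (if bitsWt r.2.1 = 1 then bitShare (m + 1) r.2.1 else 0) else 0) := fun r => by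
    simp only [f]
    by_cases ha : r.1 = r0
    · by_cases hb : bitsWt r.2.1 = 1
      · simp [ha, hb, hwk0]
      · simp [ha, hb]
    · simp [ha]
  simp only [hf, sum_sub_distrib]
  refine sub_le_sub ?_ (le_of_eq ?_)
  swap
  · rw [sum_filter, ← Finset.sum_coe_sort S]
    conv_rhs => rw [Fintype.sum_prod_type, Finset.sum_comm]
    refine sum_congr rfl fun x _ => Eq.symm ?_
    rw [sum_eq_single r0 (fun y _ hy => if_neg hy) (fun hy => absurd (mem_univ _) hy), if_pos rfl]
  rw [Fintype.sum_prod_type, ← Finset.sum_coe_sort S]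
  simp only []
  rw [← sum_mul_sum]
  refine mul_le_mul_of_nonneg_right ?_ (sum_nonneg fun b _ => hshare0 b.1 b.2)
  simp only [wk, ← prod_pow_eq_pow_sum]
  rw [← Fintype.prod_sum fun k : Fin m => fun t : T => z ^ (((k : ℕ) + 2) * (t.1 : ℕ))]
  have hT : ∀ k : Fin m, ∑ t : T, z ^ (((k : ℕ) + 2) * (t.1 : ℕ)) ≤ 1 / (1 - 3 * (1 / 3 : ℝ) ^ ((k : ℕ) + 2)) := by
    intro k
    set y := (q : ℝ) * z ^ ((k : ℕ) + 2) with hy
    have hy3' : y ≤ 3 * (1 / 3 : ℝ) ^ ((k : ℕ) + 2) := by
      rw [hy, pow_succ', ← mul_assoc, hqz, one_mul, pow_succ' (1 / 3 : ℝ), ← mul_assoc]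
      norm_num only [one_mul]
      exact pow_le_pow_left₀ hz0.le hz3 _
    have hy1' : 3 * (1 / 3 : ℝ) ^ ((k : ℕ) + 2) < 1 := by
      rw [pow_succ', ← mul_assoc]
      norm_num only [one_mul]
      exact pow_lt_one₀ (by norm_num) (by norm_num) (by omega)
    have hy0' : 0 ≤ y := by positivity
    rw [Fintype.sum_sigma]
    refine le_trans (sum_le_sum (g := fun d : Fin (n + 1) => y ^ (d : ℕ)) fun d _ => ?_) ?_
    · simp only []
      rw [sum_const, nsmul_eq_mul, Finset.card_univ, ← Nat.card_eq_fintype_card, hy, mul_pow, ← pow_mul]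
      refine mul_le_mul_of_nonneg_right ?_ (by positivity)
      exact_mod_cast (card_SPoly_le (F := F) d).2
    · rw [Fin.sum_univ_eq_sum_range (fun d => y ^ d)]
      refine (geom_factor hy0' (hy3'.trans_lt hy1') _).trans ?_
      exact one_div_le_one_div_of_le (by linarith) (by linarith)
  refine (prod_le_prod (fun k _ => sum_nonneg fun t _ => by positivity) fun k _ => hT k).trans (le_trans (le_of_eq ?_)
    (orth_A_le (m + 2)).2)
  rw [prod_Ico_eq_prod_range, show m + 2 - 2 = m by omega,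
    Fin.prod_univ_eq_prod_range (fun k => 1 / (1 - 3 * (1 / 3 : ℝ) ^ (k + 2))) m]
  simp only [add_comm 2]

theorem bitsWt_pair {L : ℕ} (c : Fin 2 → Fin L → Bool) :
    bitsWt (fun i => ![c 0, fun _ => false, c 1, fun _ => false] i) =
      ∑ i, ∑ l : Fin L, (2 * (l : ℕ) + 1) * (c i l).toNat := by
  simp [bitsWt, Fin.sum_univ_four, Fin.sum_univ_two]

/-- the sparse bit configurations -/
noncomputable def sparseBits (L : ℕ) : Finset (Fin 4 → Fin L → Bool) :=
  univ.image fun c : Fin 2 → Fin L → Bool => fun i => ![c 0, fun _ => false, c 1, fun _ => false] i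

theorem sparseBits_emb_inj (L : ℕ) :
    Function.Injective fun c : Fin 2 → Fin L → Bool => fun i => ![c 0, fun _ => false, c 1, fun _ => false] i := by
  intro c c' h
  funext i
  fin_cases i
  · exact congrFun h 0
  · exact congrFun h 2

theorem sparse_share_le (n : ℕ) :
    17854 / 10000 * ∑ b ∈ sparseBits (n + 1), bitShare (2 * n + 1) b -
      ∑ b ∈ (sparseBits (n + 1)).filter (fun b => bitsWt b = 1), bitShare (2 * n + 1) b ≤ 461 / 100 := by
  obtain ⟨hy0, hy1, -⟩ := rt3_props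
  set L := n + 1
  have hshare : ∀ b : Fin 4 → Fin L → Bool, bitShare (2 * n + 1) b =
      (rt3 ^ bitsWt b - (-rt3) ^ bitsWt b) / (2 * rt3) := by
    intro b
    rw [bitShare, neg_pow rt3, show (2 * n + 1) % 2 = 1 by omega, pow_one]
    split_ifs with he
    · rw [Nat.even_add', iff_true_right (odd_two_mul_add_one n)] at he
      rw [he.neg_one_pow]
      ring
    · rw [Nat.even_add', iff_true_right (odd_two_mul_add_one n), Nat.not_odd_iff_even] at he
      rw [he.neg_one_pow]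
      ring
  have hsum : ∀ u : ℝ, ∑ b ∈ sparseBits L, u ^ bitsWt b = (∏ l ∈ range L, (1 + u ^ (2 * l + 1))) ^ 2 := by
    intro u
    rw [sparseBits, sum_image (fun a _ b _ h => sparseBits_emb_inj L h)]
    simp only [bitsWt_pair, ← prod_pow_eq_pow_sum]
    rw [← Fintype.prod_sum fun _i : Fin 2 => fun e : Fin L → Bool => ∏ l : Fin L, u ^ ((2 * (l : ℕ) + 1) * (e l).toNat)]
    rw [prod_congr rfl fun i _ => (Fintype.prod_sum fun l : Fin L => fun b : Bool => u ^ ((2 * (l : ℕ) + 1) * b.toNat)).symm,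
      prod_const, Finset.card_univ, Fintype.card_fin, ← Fin.prod_univ_eq_prod_range (fun l => 1 + u ^ (2 * l + 1))]
    simp [Fintype.sum_bool, add_comm]
  have h2 : 2 ≤ ∑ b ∈ (sparseBits L).filter (fun b => bitsWt b = 1), bitShare (2 * n + 1) b := by
    have hone : ∀ b ∈ (sparseBits L).filter (fun b => bitsWt b = 1), bitShare (2 * n + 1) b = 1 := fun b hb => by
      rw [hshare, (mem_filter.1 hb).2, pow_one, pow_one]
      field_simp
      ring
    rw [sum_congr rfl hone, sum_const, nsmul_one]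
    have hcard : 2 ≤ ((sparseBits L).filter (fun b => bitsWt b = 1)).card := by
      let d : Fin 2 → Fin 2 → Fin L → Bool := fun j i l => decide (i = j ∧ (l : ℕ) = 0)
      have hd : Function.Injective d := fun j j' h => by
        have := congrFun (congrFun h j) ⟨0, Nat.succ_pos n⟩
        simp [d] at this
        exact this
      rw [show (2 : ℕ) = (univ.image fun j => (fun i => ![d j 0, fun _ => false, d j 1, fun _ => false] i : Fin 4 → Fin L → Bool)).card by
        have := card_image_of_injective univ ((sparseBits_emb_inj L).comp hd)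
        rw [Finset.card_univ, Fintype.card_fin] at this
        exact this.symm]
      refine card_le_card fun b hb => ?_
      obtain ⟨j, -, rfl⟩ := mem_image.1 hb
      refine mem_filter.2 ⟨mem_image_of_mem _ (mem_univ (d j)), ?_⟩
      rw [bitsWt_pair, Fintype.sum_eq_single j, Fintype.sum_eq_single (⟨0, Nat.succ_pos n⟩ : Fin L)]
      · simp [d]
      · intro l hl
        have hl' : l ≠ 0 := hl
        simp [d, hl', show (l : ℕ) ≠ 0 from fun h => hl (Fin.ext h)]
      · intro i hi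
        simp [d, hi]
    exact_mod_cast hcard
  have hall : ∑ b ∈ sparseBits L, bitShare (2 * n + 1) b ≤ (2066541 / 1000000) ^ 2 / (2 * rt3) := by
    simp only [hshare, ← sum_div, sum_sub_distrib, hsum]
    refine div_le_div_of_nonneg_right ?_ (by positivity)
    obtain ⟨b0, b1⟩ := orth_B_le L
    have := pow_le_pow_left₀ b0 b1 2
    nlinarith [sq_nonneg (∏ l ∈ range L, (1 + (-rt3) ^ (2 * l + 1)))]
  have := mul_le_mul_of_nonneg_left hall (by norm_num : (0 : ℝ) ≤ 17854 / 10000)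
  norm_num [rt3] at this ⊢
  linarith

end Cfsg.Agent.CN9
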