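import Cfsg.Agent.ClassNum9.Omega.Reg
import Cfsg.Agent.ClassNum9.Omega.Mult
import Cfsg.Agent.ClassNum9.Omega.SplitCount
import Cfsg.Agent.ClassNum9.Orth.Bound

/-!
Classes with centraliser inside Omega are determined by sparse codes.
-/

set_option autoImplicit false

namespace Cfsg.Agent.CN9

open Polynomial Module
open Cfsg.Agent.Reflections (mat)

universe u

variable {F : Type u} [Field F] [Fintype F] {ι : Type} [Fintype ι] [DecidableEq ι] {Q : QuadraticForm F (ι → F)}

/-- isometries with the same labels are conjugate -/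
theorem isConj_of_decomp (h2 : (2 : F) ≠ 0) (hQ : (QuadraticMap.polarBilin Q).Nondegenerate)
    {a b : ↥(Cfsg.isometryGroup F ⇑Q)} {M : Multiset ((F[X] × ℕ) × Bool)}
    (hMa : Decomp (1 : F) (QuadraticMap.polarBilin Q) (isoEquiv a) ⊤ M)
    (hMb : Decomp (1 : F) (QuadraticMap.polarBilin Q) (isoEquiv b) ⊤ M) : IsConj a b := by
  obtain ⟨f, hfB, hfg⟩ := exists_isometry h2 (formAut_isoEquiv a) (formAut_isoEquiv b) (polar_ndOn_top hQ) hMa hMb
  have hfQ : ∀ v, Q (f v) = Q v := fun v => by
    have h1 := hfB v v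
    simp only [QuadraticMap.polarBilin_apply_apply, QuadraticMap.polar_self, nsmul_eq_mul, Nat.cast_ofNat] at h1
    exact mul_left_cancel₀ h2 h1
  have hu : IsUnit (LinearMap.toMatrix' (f : (ι → F) →ₗ[F] (ι → F))) :=
    ⟨⟨LinearMap.toMatrix' (f : (ι → F) →ₗ[F] (ι → F)), LinearMap.toMatrix' (f.symm : (ι → F) →ₗ[F] (ι → F)),
      by rw [← LinearMap.toMatrix'_comp]; simp, by rw [← LinearMap.toMatrix'_comp]; simp⟩, rfl⟩
  let c : ↥(Cfsg.isometryGroup F ⇑Q) := ⟨hu.unit, fun v w => by
    show Q (Matrix.mulVec (LinearMap.toMatrix' (f : (ι → F) →ₗ[F] (ι → F))) v) = Q v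
    rw [LinearMap.toMatrix'_mulVec]
    exact hfQ v⟩
  have hc : ∀ x, Reflections.act c x = f x := fun x => LinearMap.toMatrix'_mulVec _ x
  refine isConj_iff.2 ⟨c, ?_⟩
  rw [mul_inv_eq_iff_eq_mul]
  refine Reflections.isom_ext fun x => ?_
  rw [Reflections.act_mul, Reflections.act_mul, hc, hc, ← isoEquiv_apply a, hfg, isoEquiv_apply]

theorem exists_neg_one (Q : QuadraticForm F (ι → F)) :
    ∃ z : ↥(Cfsg.isometryGroup F ⇑Q), mat z = -1 ∧ ∀ y, Commute z y := by
  let u : Matrix.GeneralLinearGroup ι F := -1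
  refine ⟨⟨u, fun v w => ?_⟩, rfl, fun y => Subtype.ext (Units.ext ?_)⟩
  · show Q (Matrix.mulVec (-1 : Matrix ι ι F) v) = Q v
    rw [Matrix.neg_mulVec, Matrix.one_mulVec, QuadraticMap.map_neg]
  · show -1 * ((y : Matrix.GeneralLinearGroup ι F) : Matrix ι ι F) = ((y : Matrix.GeneralLinearGroup ι F) : Matrix ι ι F) * -1
    rw [neg_one_mul, mul_neg_one]

omit [Fintype F] in
theorem map_flag_eq {M M' : Multiset ((F[X] × ℕ) × Bool)}
    (h : ∀ z ∈ M + M', ∀ z' ∈ M + M', z.1 = z'.1 → z = z') (hmap : M.map Prod.fst = M'.map Prod.fst) : M = M' := by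
  classical
  let σ : F[X] × ℕ → (F[X] × ℕ) × Bool := fun p => (p, decide ((p, true) ∈ M + M'))
  have key : ∀ z ∈ M + M', σ z.1 = z := fun z hz => by
    obtain ⟨p, b⟩ := z
    cases b
    · by_cases hm : (p, true) ∈ M + M'
      · exact absurd (h _ hz _ hm rfl) (by simp)
      · simp only [σ, hm, decide_false]
    · simp only [σ, hz, decide_true]
  calc M = M.map (σ ∘ Prod.fst) := by
        conv_lhs => rw [← Multiset.map_id M]
        exact Multiset.map_congr rfl fun z hz => (key z (Multiset.mem_add.2 (Or.inl hz))).symm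
    _ = M'.map (σ ∘ Prod.fst) := by rw [← Multiset.map_map, hmap, Multiset.map_map]
    _ = M' := by
        conv_rhs => rw [← Multiset.map_id M']
        exact Multiset.map_congr rfl fun z hz => key z (Multiset.mem_add.2 (Or.inr hz))

/-- the shape of the labels -/
theorem CentInOmega.labels (h2 : (2 : F) ≠ 0) (hQ : (QuadraticMap.polarBilin Q).Nondegenerate)
    (hn : 2 ≤ Fintype.card ι) (hN : Odd (Fintype.card ι)) {g : ↥(Cfsg.isometryGroup F ⇑Q)} (hg : CentInOmega g)
    {M : Multiset ((F[X] × ℕ) × Bool)} (hM : Decomp (1 : F) (QuadraticMap.polarBilin Q) (isoEquiv g) ⊤ M) :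
    (∀ z ∈ M, IsReg z.1.1 → z.1.2 ≠ 1) ∧
      ∀ (s : F) (e : ℕ), (s = 1 ∨ s = -1) → linMult M s e ≤ 1 := by
  classical
  have h := formAut_isoEquiv g
  refine ⟨?_, fun s e hs => ?_⟩
  · rintro ⟨⟨P, e⟩, ν⟩ hz hr he
    simp only at hr he
    subst he
    obtain ⟨W, -, hW, -, -, -⟩ := hM.front h hz
    exact hg.no_reg_one h2 hQ hn hr hW
  · by_contra hgt
    simp only [linMult, not_le] at hgt
    obtain ⟨ν1, hν1⟩ : ∃ ν1, ((X - C s, e), ν1) ∈ M := by
      by_contra hno
      push Not at hno
      rw [Multiset.count_eq_zero_of_notMem (hno _), Multiset.count_eq_zero_of_notMem (hno _)] at hgt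
      omega
    obtain ⟨R1, rfl⟩ := Multiset.exists_cons_of_mem hν1
    obtain ⟨ν2, hν2⟩ : ∃ ν2, ((X - C s, e), ν2) ∈ R1 := by
      by_contra hno
      push Not at hno
      cases ν1 <;> simp [Multiset.count_eq_zero_of_notMem (hno _)] at hgt
    obtain ⟨R2, rfl⟩ := Multiset.exists_cons_of_mem hν2
    have hodd : Odd e := by
      obtain ⟨he, hcase⟩ := hM.valid _ hν1
      rcases hcase with ⟨hr, -⟩ | ⟨s', -, -, hsign⟩ | ⟨s', -, hs', -⟩
      · have := (hr.shape h2).2.1
        rw [natDegree_X_sub_C] at this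
        exact absurd this Nat.not_even_one
      · exact sign1_odd he hsign h2
      · exfalso
        have := congrArg natDegree hs'
        rw [natDegree_pow, natDegree_X_sub_C, natDegree_X_sub_C] at this
        omega
    exact hg.no_repeat h2 hQ hn hN hs hodd hM

/-- classes with centraliser inside Omega, counted by sparse codes -/
theorem card_cent_classes_le (hodd : Odd (Fintype.card F)) (hQ : (QuadraticMap.polarBilin Q).Nondegenerate) {n : ℕ}
    (hn : 2 ≤ n) (hι : Fintype.card ι = 2 * n + 1) :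
    (Nat.card {C : ConjClasses ↥(Cfsg.isometryGroup F ⇑Q) // ∃ x, ConjClasses.mk x = C ∧ CentInOmega x} : ℝ) ≤
      461 / 100 * (Fintype.card F : ℝ) ^ n := by
  classical
  have h2 : (2 : F) ≠ 0 := Ring.two_ne_zero fun h => by
    have h1 := FiniteField.even_card_of_char_two (F := F) h
    rw [Nat.odd_iff] at hodd
    omega
  have hq : 3 ≤ Fintype.card F := by
    have h1 := Fintype.one_lt_card (α := F)
    obtain ⟨r, hr⟩ := hodd
    omega
  set N := Fintype.card ι with hNdef
  have hNodd : Odd N := ⟨n, hι⟩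
  have hN2 : 2 ≤ N := by omega
  let S := {C : ConjClasses ↥(Cfsg.isometryGroup F ⇑Q) // ∃ x, ConjClasses.mk x = C ∧ CentInOmega x}
  choose x hx hxc using fun C : S => C.2
  choose M hM hMN using fun C : S => exists_normalised h2 (formAut_isoEquiv (x C)) (polar_ndOn_top hQ)
  let fl : (F[X] × ℕ) × Bool → (F[X] × ℕ) × Bool := fun z => (z.1, false)
  have hval : ∀ C, ∀ z ∈ (M C).map fl, ValidLabel (1 : F) z := fun C z hz => by
    obtain ⟨w, hw, rfl⟩ := Multiset.mem_map.1 hz
    obtain ⟨he, hc⟩ := (hM C).valid w hw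
    exact ⟨he, hc.imp (fun h => ⟨h.1, rfl⟩) (Or.imp id fun ⟨s, a, b, c, _⟩ => ⟨s, a, b, c, rfl⟩)⟩
  have hnot : ∀ C, ∀ z ∈ (M C).map fl, z.2 = false := fun C z hz => by
    obtain ⟨w, -, rfl⟩ := Multiset.mem_map.1 hz
    rfl
  let L : S → LabelSet F N := fun C => ⟨(M C).map fl, hval C,
    fun z hz hzt => absurd hzt (by rw [hnot C z hz]; simp), by
      rw [Multiset.map_map]
      refine Eq.trans ?_ ((decomp_dim h2 (formAut_isoEquiv (x C)) (hM C) (fun _ _ => Submodule.mem_top)
        (polar_ndOn_top hQ)).trans (by rw [finrank_top, Module.finrank_fintype_fun_eq_card]))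
      rfl⟩
  have hL : Function.Injective L := by
    intro C C' hCC
    have hmap : (M C).map Prod.fst = (M C').map Prod.fst := by
      have e := congrArg (fun X : LabelSet F N => X.1.map Prod.fst) hCC
      simp only [L, Multiset.map_map] at e
      exact e
    have hMM : M C = M C' := by
      refine map_flag_eq ?_ hmap
      have hpiece : ∀ z ∈ M C + M C', ∃ D : S, z ∈ M D := fun z hz =>
        (Multiset.mem_add.1 hz).elim (fun h => ⟨C, h⟩) fun h => ⟨C', h⟩
      intro z hz z' hz' hzz
      obtain ⟨D, hD⟩ := hpiece z hz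
      obtain ⟨D', hD'⟩ := hpiece z' hz'
      obtain ⟨p, ν⟩ := z
      obtain ⟨p', ν'⟩ := z'
      simp only at hzz
      subst hzz
      obtain ⟨he, hc⟩ := (hM D).valid _ hD
      obtain ⟨-, hc'⟩ := (hM D').valid _ hD'
      simp only at hc hc' he
      rcases hc with ⟨hr, rfl⟩ | ⟨s, hs, hP, hsign⟩ | ⟨s, hs, hP, -, rfl⟩
      · rcases hc' with ⟨-, rfl⟩ | ⟨s, hs, hP, -⟩ | ⟨s, -, -, -, rfl⟩
        · rfl
        · exfalso
          rw [hP] at hr
          have := (hr.shape h2).2.1
          rw [natDegree_X_sub_C] at this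
          exact Nat.not_even_one this
        · rfl
      · obtain ⟨P, e⟩ := p
        simp only at hP hsign he
        subst hP
        obtain ⟨W, -, hW, -, -, -⟩ := (hM D).front (formAut_isoEquiv _) hD
        obtain ⟨W', -, hW', -, -, -⟩ := (hM D').front (formAut_isoEquiv _) hD'
        rw [(hxc D).label_unique h2 hQ hN2 hNodd (hxc D') hs (sign1_odd he hsign h2) hW hW']
      · rcases hc' with ⟨-, rfl⟩ | ⟨s', -, hP', -⟩ | ⟨s', -, -, -, rfl⟩
        · rfl
        · exfalso
          have := congrArg natDegree (hP.symm.trans hP')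
          rw [natDegree_pow, natDegree_X_sub_C, natDegree_X_sub_C] at this
          omega
        · rfl
    refine Subtype.ext ?_
    rw [← hx C, ← hx C', ConjClasses.mk_eq_mk_iff_isConj]
    exact isConj_of_decomp h2 hQ (hM C) (hMM ▸ hM C')
  -- the codes are sparse and have no first polynomial
  have hmult : ∀ (C : S) (s : F) (e : ℕ), linMult (L C).1 s e = linMult (M C) s e := by
    intro C s e
    have hgen : ∀ R : Multiset ((F[X] × ℕ) × Bool),
        linMult (R.map fl) s e = linMult R s e := by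
      intro R
      induction R using Multiset.induction_on with
      | empty => simp [linMult]
      | cons z R ih =>
        simp only [linMult, fl, Multiset.map_cons, Multiset.count_cons] at ih ⊢
        obtain ⟨p, ν⟩ := z
        have h0 := Multiset.count_eq_zero_of_notMem (s := R.map fun x => (x.1, false))
          (a := ((X - Polynomial.C s, e), true)) (by simp)
        by_cases hp : (X - Polynomial.C s, e) = p
        · subst hp
          cases ν <;> simp <;> omega
        · cases ν <;> simp [hp] <;> omega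
    exact hgen _
  have hflag : ∀ (C : S) (s : F) (e : ℕ), linFlag (L C).1 s e = false := fun C s e => by
    simp only [linFlag, decide_eq_false_iff_not]
    exact fun hm => by simpa using hnot C _ hm
  have hsparse : ∀ C : S, (labelCode h2 (L C)).1.2 ∈ sparseBits ((N + 1) / 2) := by
    intro C
    have hbit : ∀ (s : F), (s = 1 ∨ s = -1) → ∀ k,
        (splitFlag (linMult (L C).1 s k) (linFlag (L C).1 s k)).2.2 = false := by
      intro s hs k
      have hle := ((hxc C).labels h2 hQ hN2 hNodd (hM C)).2 s k hs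
      rw [hmult, hflag]
      interval_cases h : linMult (M C) s k <;> rfl
    refine Finset.mem_image.2 ⟨fun i l => (labelCode h2 (L C)).1.2 (![0, 2] i) l, Finset.mem_univ _, ?_⟩
    funext i l
    fin_cases i
    · rfl
    · exact (hbit 1 (Or.inl rfl) _).symm
    · rfl
    · exact (hbit (-1) (Or.inr rfl) _).symm
  have hfirst : ∀ C : S, (codePoly (L C).1 1).natDegree = 0 := by
    intro C
    obtain ⟨hreg, hlin⟩ := (hxc C).labels h2 hQ hN2 hNodd (hM C)
    have hreg0 : regPart (L C).1 1 = 0 := by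
      simp only [regPart]
      rw [Multiset.filter_eq_nil.2, Multiset.map_zero]
      rintro z hz ⟨hz1, hzr⟩
      obtain ⟨w, hw, rfl⟩ := Multiset.mem_map.1 hz
      exact hreg w hw hzr hz1
    have hsq : ∀ s : F, (s = 1 ∨ s = -1) → sqPow (L C).1 s 1 = 0 := fun s hs => by
      simp only [sqPow]
      have h0 : (((X - Polynomial.C s) ^ 2, 1), false) ∉ (L C).1 := fun hm => by
        obtain ⟨-, hcase⟩ := (L C).2.1 _ hm
        rcases hcase with ⟨hr, -⟩ | ⟨s', -, hs', -⟩ | ⟨s', -, -, hsign, -⟩
        · obtain ⟨-, h1, h1', -⟩ := hr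
          rcases hs with rfl | rfl
          · exact h1 (by simp)
          · exact h1' (by simp)
        · have := congrArg natDegree hs'
          simp only at this
          rw [natDegree_pow, natDegree_X_sub_C, natDegree_X_sub_C] at this
          omega
        · simp only [Nat.sub_self, pow_zero, mul_one] at hsign
          exact h2 (by linear_combination hsign)
      rw [Multiset.count_eq_zero_of_notMem h0, zero_add, hflag, hmult]
      have hle := hlin s 1 hs
      interval_cases h : linMult (M C) s 1 <;> rfl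
    rw [codePoly_degree h2, hreg0, hsq 1 (Or.inl rfl), hsq (-1) (Or.inr rfl)]
    simp
  let Φ : S → {y : CodeO F N // codeOWt y = N ∧ y.2 ∈ sparseBits ((N + 1) / 2) ∧ ((y.1 ⟨0, by omega⟩).1 : ℕ) = 0} :=
    fun C => ⟨(labelCode h2 (L C)).1, (labelCode h2 (L C)).2, hsparse C, by
      show (codePoly (L C).1 (0 + 1)).natDegree / 2 = 0
      rw [zero_add, hfirst C]⟩
  have hΦ : Function.Injective Φ := fun C C' h => hL (labelCode_inj h2 (Subtype.ext (congrArg Subtype.val h :)))
  haveI : ∀ d, Finite (SPoly F d) := fun d => (card_SPoly_le d).1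
  have hle := Nat.card_le_card_of_injective Φ hΦ
  refine (Nat.cast_le.2 hle).trans ((card_code0_le hq (by omega) _).trans ?_)
  rw [show N / 2 = n by omega]
  refine mul_le_mul_of_nonneg_right ?_ (by positivity)
  have key : ∀ M K : ℕ, M = 2 * n + 1 → K = n + 1 →
      17854 / 10000 * ∑ b ∈ sparseBits K, bitShare M b -
        ∑ b ∈ (sparseBits K).filter (fun b => bitsWt b = 1), bitShare M b ≤ 461 / 100 := by
    rintro _ _ rfl rfl
    exact sparse_share_le n
  exact key N _ hι (by omega)

end Cfsg.Agent.CN9
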